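import Mathlib
import Groth.Agent.Lib.Helper9.FF.Conv
import Groth.Agent.Lib.Helper9.FF.HopfSub
import Groth.Agent.Lib.Helper9.Comod
import Groth.Agent.Lib.Helper9.ComodCoeff

/-!
# Coinvariants of a quotient Hopf algebra and normal surjections (helper9)

For a bialgebra map `p : A →ₐc[k] C` of commutative Hopf algebras (a closed subgroup `N = Spec C` of
`G = Spec A` when `p` is surjective): the right coaction `rho p`, the left coaction `lam p`, the
subalgebra `coinv p` of right-`N`-invariant functions, the conjugation map `conj' p`, the notion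
`IsNormalHom p`, and the basic calculus relating them.
-/

namespace Groth.Agent.H9.NQ

open TensorProduct Groth.Agent.H9.FF Groth.Agent.H9.FF.Conv

section ConvExtra

variable {k : Type*} {A : Type*} {C : Type*} [CommRing k] [CommRing A] [HopfAlgebra k A]
  [CommRing C] [Algebra k C]

lemma cinv_unique {f g : A →ₐ[k] C} (h : cmul f g = cone) : g = cinv f := by
  calc g = cmul (cinv f) (cmul f g) := (cinv_cmul_cancel_left f g).symm
    _ = cinv f := by rw [h, cmul_cone]

lemma cinv_unique' {f g : A →ₐ[k] C} (h : cmul g f = cone) : g = cinv f := by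
  calc g = cmul (cmul g f) (cinv f) := (cmul_cinv_cancel_right g f).symm
    _ = cinv f := by rw [h, cone_cmul]

lemma cinv_cone : cinv (cone : A →ₐ[k] C) = cone :=
  (cinv_unique (cone_cmul cone)).symm

lemma cinv_cinv (f : A →ₐ[k] C) : cinv (cinv f) = f :=
  (cinv_unique (cinv_cmul f)).symm

lemma cinv_cmul_rev (f g : A →ₐ[k] C) : cinv (cmul f g) = cmul (cinv g) (cinv f) := by
  symm
  apply cinv_unique
  rw [cmul_assoc, ← cmul_assoc g, cmul_cinv, cone_cmul, cmul_cinv]

lemma cinv_apply (f : A →ₐ[k] C) (a : A) : cinv f a = f (HopfAlgebra.antipode k a) := rfl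

/-- conjugation identity `n g = g (g⁻¹ n g)` -/
lemma cmul_eq_cmul_conj (n g : A →ₐ[k] C) :
    cmul n g = cmul g (cmul (cmul (cinv g) n) g) := by
  rw [cmul_assoc, cmul_cinv_cancel_left]

/-- conjugation identity `g n = (g n g⁻¹) g` -/
lemma cmul_eq_conj_cmul (g n : A →ₐ[k] C) :
    cmul g n = cmul (cmul (cmul g n) (cinv g)) g := by
  rw [cinv_cmul_cancel_right]

end ConvExtra

section Coactions

variable {k : Type*} {A : Type*} {C : Type*} [CommRing k] [CommRing A] [HopfAlgebra k A]
  [CommRing C] [HopfAlgebra k C] (p : A →ₐc[k] C)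

/-- right coaction `a ↦ a₁ ⊗ p(a₂)` -/
noncomputable def rho : A →ₐ[k] A ⊗[k] C :=
  cmul (Algebra.TensorProduct.includeLeft) ((Algebra.TensorProduct.includeRight).comp (p : A →ₐ[k] C))

/-- left coaction `a ↦ p(a₁) ⊗ a₂` -/
noncomputable def lam : A →ₐ[k] C ⊗[k] A :=
  cmul ((Algebra.TensorProduct.includeLeft).comp (p : A →ₐ[k] C)) (Algebra.TensorProduct.includeRight)

lemma rho_eq : rho p = (Algebra.TensorProduct.map (AlgHom.id k A) (p : A →ₐ[k] C)).comp
    (Bialgebra.comulAlgHom k A) := by
  rw [← includeLeft_cmul_includeRight, comp_cmul, Algebra.TensorProduct.map_comp_includeLeft,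
    Algebra.TensorProduct.map_comp_includeRight, AlgHom.comp_id]
  rfl

lemma lam_eq : lam p = (Algebra.TensorProduct.map (p : A →ₐ[k] C) (AlgHom.id k A)).comp
    (Bialgebra.comulAlgHom k A) := by
  rw [← includeLeft_cmul_includeRight, comp_cmul, Algebra.TensorProduct.map_comp_includeLeft,
    Algebra.TensorProduct.map_comp_includeRight, AlgHom.comp_id]
  rfl

lemma rho_apply (a : A) :
    rho p a = (p : A →ₐ[k] C).toLinearMap.lTensor A (Coalgebra.comul (R := k) a) := by
  rw [rho_eq]
  rfl

lemma lam_apply (a : A) :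
    lam p a = (p : A →ₐ[k] C).toLinearMap.rTensor A (Coalgebra.comul (R := k) a) := by
  rw [lam_eq]
  rfl

variable {R : Type*} [CommRing R] [Algebra k R]

lemma lift_comp_rho (g : A →ₐ[k] R) (n : C →ₐ[k] R) :
    (Algebra.TensorProduct.lift g n (fun _ _ => .all _ _)).comp (rho p) =
      cmul g (n.comp (p : A →ₐ[k] C)) := by
  rw [rho, comp_cmul, Algebra.TensorProduct.lift_comp_includeLeft, ← AlgHom.comp_assoc,
    Algebra.TensorProduct.lift_comp_includeRight']

lemma lift_comp_lam (n : C →ₐ[k] R) (g : A →ₐ[k] R) :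
    (Algebra.TensorProduct.lift n g (fun _ _ => .all _ _)).comp (lam p) =
      cmul (n.comp (p : A →ₐ[k] C)) g := by
  rw [lam, comp_cmul, Algebra.TensorProduct.lift_comp_includeRight', ← AlgHom.comp_assoc,
    Algebra.TensorProduct.lift_comp_includeLeft]

/-- `a` transforms on the right by the element `χ` -/
def RChar (χ : C) (a : A) : Prop := rho p a = a ⊗ₜ[k] χ

/-- `a` transforms on the left by the element `χ` -/
def LChar (χ : C) (a : A) : Prop := lam p a = χ ⊗ₜ[k] a

variable {p}

lemma RChar.cmul_apply {χ : C} {a : A} (h : RChar p χ a) (g : A →ₐ[k] R) (n : C →ₐ[k] R) :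
    cmul g (n.comp (p : A →ₐ[k] C)) a = g a * n χ := by
  rw [← lift_comp_rho, AlgHom.comp_apply, h, Algebra.TensorProduct.lift_tmul]

lemma LChar.cmul_apply {χ : C} {a : A} (h : LChar p χ a) (n : C →ₐ[k] R) (g : A →ₐ[k] R) :
    cmul (n.comp (p : A →ₐ[k] C)) g a = n χ * g a := by
  rw [← lift_comp_lam, AlgHom.comp_apply, h, Algebra.TensorProduct.lift_tmul]

variable (p)

/-- right-invariant functions: `a₁ ⊗ p(a₂) = a ⊗ 1` -/
noncomputable def coinv : Subalgebra k A :=
  AlgHom.equalizer (rho p) (Algebra.TensorProduct.includeLeft)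

lemma mem_coinv {a : A} : a ∈ coinv p ↔ RChar p 1 a := Iff.rfl

variable {p}

lemma cmul_apply_of_mem_coinv {a : A} (h : a ∈ coinv p) (g : A →ₐ[k] R) (n : C →ₐ[k] R) :
    cmul g (n.comp (p : A →ₐ[k] C)) a = g a := by
  rw [RChar.cmul_apply ((mem_coinv p).mp h), map_one, mul_one]

/-- on invariant functions `p` is the counit -/
lemma apply_of_mem_coinv {a : A} (h : a ∈ coinv p) :
    p a = algebraMap k C (Coalgebra.counit (R := k) a) := by
  have h1 := cmul_apply_of_mem_coinv h (cone : A →ₐ[k] C) (AlgHom.id k C)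
  rw [AlgHom.id_comp, cone_cmul, cone_apply] at h1
  exact h1

end Coactions

section Normal

variable {k : Type*} {A : Type*} {C : Type*} [CommRing k] [CommRing A] [HopfAlgebra k A]
  [CommRing C] [HopfAlgebra k C] (p : A →ₐc[k] C)

/-- the conjugation map `a ↦ p(a₂) ⊗ S(a₁) a₃`, i.e. the function `(n, g) ↦ a(g⁻¹ n g)` -/
noncomputable def conj' : A →ₐ[k] C ⊗[k] A :=
  cmul (cmul (cinv Algebra.TensorProduct.includeRight)
    ((Algebra.TensorProduct.includeLeft).comp (p : A →ₐ[k] C))) Algebra.TensorProduct.includeRight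

/-- the closed subgroup `Spec C` is normal: conjugates of its points are again points of it -/
def IsNormalHom : Prop := ∀ a : A, p a = 0 → conj' p a = 0

variable {R : Type*} [CommRing R] [Algebra k R]

lemma comp_conj' (Φ : C ⊗[k] A →ₐ[k] R) :
    Φ.comp (conj' p) = cmul (cmul (cinv (Φ.comp Algebra.TensorProduct.includeRight))
      ((Φ.comp Algebra.TensorProduct.includeLeft).comp (p : A →ₐ[k] C)))
      (Φ.comp Algebra.TensorProduct.includeRight) := by
  rw [conj', comp_cmul, comp_cmul, comp_cinv, AlgHom.comp_assoc]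

variable {p}
variable (hp : Function.Surjective p) (hn : IsNormalHom p)

/-- the conjugation coaction of `G` on `N` -/
noncomputable def conjLift : C →ₐ[k] C ⊗[k] A :=
  AlgHom.liftOfSurjective (p : A →ₐ[k] C) hp (conj' p) (by
    intro a ha
    rw [RingHom.mem_ker] at ha ⊢
    exact hn a ha)

lemma conjLift_comp : (conjLift hp hn).comp (p : A →ₐ[k] C) = conj' p :=
  AlgHom.liftOfSurjective_comp _ _ _ _

include hp hn in
/-- normality for arbitrary points: `g⁻¹ n g` is a point of `N` -/
lemma normal_factor (g : A →ₐ[k] R) (n : C →ₐ[k] R) :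
    ∃ n' : C →ₐ[k] R, cmul (cmul (cinv g) (n.comp (p : A →ₐ[k] C))) g =
      n'.comp (p : A →ₐ[k] C) := by
  refine ⟨(Algebra.TensorProduct.lift n g (fun _ _ => .all _ _)).comp (conjLift hp hn), ?_⟩
  rw [AlgHom.comp_assoc, conjLift_comp, comp_conj', Algebra.TensorProduct.lift_comp_includeRight',
    Algebra.TensorProduct.lift_comp_includeLeft]

include hp hn in
/-- normality for arbitrary points: `g n g⁻¹` is a point of `N` -/
lemma normal_factor' (g : A →ₐ[k] R) (n : C →ₐ[k] R) :
    ∃ n' : C →ₐ[k] R, cmul (cmul g (n.comp (p : A →ₐ[k] C))) (cinv g) =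
      n'.comp (p : A →ₐ[k] C) := by
  obtain ⟨n', h⟩ := normal_factor hp hn (cinv g) n
  rw [cinv_cinv] at h
  exact ⟨n', h⟩

/-- **key lemma**: if conjugation fixes the character `χ` of `N`, then functions transforming on
the right by `χ` also transform on the left by `χ` -/
theorem LChar_of_RChar {χ : C} (hχ : conjLift hp hn χ = χ ⊗ₜ[k] (1 : A)) {a : A}
    (ha : RChar p χ a) : LChar p χ a := by
  unfold LChar
  have h1 : lam p = cmul (Algebra.TensorProduct.includeRight)
      ((conjLift hp hn).comp (p : A →ₐ[k] C)) := by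
    rw [lam, cmul_eq_cmul_conj, conjLift_comp]
    rfl
  rw [h1, ha.cmul_apply, hχ, Algebra.TensorProduct.includeRight_apply,
    Algebra.TensorProduct.tmul_mul_tmul, one_mul, mul_one]

include hp hn in
theorem LChar_one_of_mem_coinv {a : A} (ha : a ∈ coinv p) : LChar p 1 a :=
  LChar_of_RChar hp hn (by rw [map_one]; rfl) ((mem_coinv p).mp ha)

include hp hn in
theorem mem_coinv_of_LChar_one {a : A} (ha : LChar p 1 a) : a ∈ coinv p := by
  obtain ⟨n', h⟩ := normal_factor' hp hn
    (Algebra.TensorProduct.includeLeft : A →ₐ[k] A ⊗[k] C)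
    (Algebra.TensorProduct.includeRight : C →ₐ[k] A ⊗[k] C)
  have h1 : rho p = cmul (n'.comp (p : A →ₐ[k] C)) Algebra.TensorProduct.includeLeft := by
    rw [rho, cmul_eq_conj_cmul, h]
  show rho p a = Algebra.TensorProduct.includeLeft a
  rw [h1, ha.cmul_apply, map_one, one_mul]

include hp hn in
theorem antipode_mem_coinv {a : A} (ha : a ∈ coinv p) : HopfAlgebra.antipode k a ∈ coinv p := by
  have hL := LChar_one_of_mem_coinv hp hn ha
  show rho p (HopfAlgebra.antipode k a) = Algebra.TensorProduct.includeLeft (HopfAlgebra.antipode k a)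
  have h1 : rho p (HopfAlgebra.antipode k a) = cinv (rho p) a := rfl
  rw [h1, rho, cinv_cmul_rev, ← cinv_comp_bialgHom, hL.cmul_apply, map_one, one_mul]
  rfl

end Normal

section HopfSub

universe u v w

variable {k : Type u} [Field k] {A : Type v} [CommRing A] [HopfAlgebra k A]
  {C : Type w} [CommRing C] [HopfAlgebra k C] {p : A →ₐc[k] C}

open Groth.Agent.H9.Comod

omit [HopfAlgebra k C] in
lemma map_comp_comul {R R' : Type*} [CommRing R] [Algebra k R] [CommRing R'] [Algebra k R']
    (f : A →ₐ[k] R) (g : A →ₐ[k] R') :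
    (Algebra.TensorProduct.map f g).comp (Bialgebra.comulAlgHom k A) =
      cmul ((Algebra.TensorProduct.includeLeft).comp f)
        ((Algebra.TensorProduct.includeRight).comp g) := by
  rw [← includeLeft_cmul_includeRight, comp_cmul, Algebra.TensorProduct.map_comp_includeLeft,
    Algebra.TensorProduct.map_comp_includeRight]

lemma sliceL_comul_mem_coinv {a : A} (ha : a ∈ coinv p) (ψ : A →ₗ[k] k) :
    sliceL ψ (Coalgebra.comul (R := k) a) ∈ coinv p := by
  show rho p (sliceL ψ (Coalgebra.comul (R := k) a)) =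
    Algebra.TensorProduct.includeLeft (sliceL ψ (Coalgebra.comul (R := k) a))
  have e1 : rho p (sliceL ψ (Coalgebra.comul (R := k) a)) =
      sliceL ψ ((rho p).toLinearMap.lTensor A (Coalgebra.comul (R := k) a)) :=
    (sliceL_lTensor ψ (rho p).toLinearMap _).symm
  have e2 : (Algebra.TensorProduct.includeLeft : A →ₐ[k] A ⊗[k] C)
      (sliceL ψ (Coalgebra.comul (R := k) a)) =
      sliceL ψ ((Algebra.TensorProduct.includeLeft : A →ₐ[k] A ⊗[k] C).toLinearMap.lTensor A
        (Coalgebra.comul (R := k) a)) :=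
    (sliceL_lTensor ψ (Algebra.TensorProduct.includeLeft : A →ₐ[k] A ⊗[k] C).toLinearMap _).symm
  rw [e1, e2]
  congr 1
  have h1 : (rho p).toLinearMap.lTensor A (Coalgebra.comul (R := k) a) =
      ((Algebra.TensorProduct.map (AlgHom.id k A) (rho p)).comp (Bialgebra.comulAlgHom k A)) a :=
    rfl
  have h2 : (Algebra.TensorProduct.includeLeft : A →ₐ[k] A ⊗[k] C).toLinearMap.lTensor A
      (Coalgebra.comul (R := k) a) =
      ((Algebra.TensorProduct.map (AlgHom.id k A)
        (Algebra.TensorProduct.includeLeft : A →ₐ[k] A ⊗[k] C)).comp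
          (Bialgebra.comulAlgHom k A)) a := rfl
  rw [h1, h2, map_comp_comul, map_comp_comul, rho, comp_cmul, ← cmul_assoc, ← AlgHom.comp_assoc,
    cmul_apply_of_mem_coinv ha]

lemma slice_comul_mem_coinv (hp : Function.Surjective p) (hn : IsNormalHom p) {a : A}
    (ha : a ∈ coinv p) (φ : A →ₗ[k] k) :
    slice φ (Coalgebra.comul (R := k) a) ∈ coinv p := by
  apply mem_coinv_of_LChar_one hp hn
  have hL := LChar_one_of_mem_coinv hp hn ha
  show lam p (slice φ (Coalgebra.comul (R := k) a)) =
    (1 : C) ⊗ₜ[k] slice φ (Coalgebra.comul (R := k) a)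
  have e1 : lam p (slice φ (Coalgebra.comul (R := k) a)) =
      slice φ ((lam p).toLinearMap.rTensor A (Coalgebra.comul (R := k) a)) :=
    (slice_rTensor φ (lam p).toLinearMap _).symm
  have e2 : (1 : C) ⊗ₜ[k] slice φ (Coalgebra.comul (R := k) a) =
      slice φ ((Algebra.TensorProduct.includeRight : A →ₐ[k] C ⊗[k] A).toLinearMap.rTensor A
        (Coalgebra.comul (R := k) a)) :=
    (slice_rTensor φ (Algebra.TensorProduct.includeRight : A →ₐ[k] C ⊗[k] A).toLinearMap _).symm
  rw [e1, e2]
  congr 1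
  have h1 : (lam p).toLinearMap.rTensor A (Coalgebra.comul (R := k) a) =
      ((Algebra.TensorProduct.map (lam p) (AlgHom.id k A)).comp (Bialgebra.comulAlgHom k A)) a :=
    rfl
  have h2 : (Algebra.TensorProduct.includeRight : A →ₐ[k] C ⊗[k] A).toLinearMap.rTensor A
      (Coalgebra.comul (R := k) a) =
      ((Algebra.TensorProduct.map (Algebra.TensorProduct.includeRight : A →ₐ[k] C ⊗[k] A)
        (AlgHom.id k A)).comp (Bialgebra.comulAlgHom k A)) a := rfl
  rw [h1, h2, map_comp_comul, map_comp_comul, lam, comp_cmul, cmul_assoc, ← AlgHom.comp_assoc,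
    hL.cmul_apply, map_one, one_mul]

/-- the right-invariant functions of a normal closed subgroup form a sub-Hopf-algebra -/
theorem isHopfSub_coinv (hp : Function.Surjective p) (hn : IsNormalHom p) :
    IsHopfSub k A (coinv p) := by
  constructor
  · intro b hb
    have h1 := (mem_range_map_subtype_iff_slice (Subalgebra.toSubmodule (coinv p))
      (Subalgebra.toSubmodule (coinv p)) (Coalgebra.comul (R := k) b)).mpr
      ⟨fun φ => slice_comul_mem_coinv hp hn hb φ, fun ψ => sliceL_comul_mem_coinv hb ψ⟩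
    exact h1
  · intro b hb
    exact antipode_mem_coinv hp hn hb

end HopfSub

end Groth.Agent.H9.NQ
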