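import Mathlib
import Groth.Agent.Lib.Helper9.FF.Galois
import Groth.Agent.Lib.Helper9.NQ.Basic

/-!
# `B⁺A` is a Hopf ideal (helper9)

For a bialgebra map `f : B →ₐc[k] A` of commutative Hopf algebras, with `A` a `B`-algebra through
`f`, the ideal `augIdeal k A B = B⁺A` is a Hopf ideal.
-/

namespace Groth.Agent.H9.NQ

open TensorProduct Groth.Agent.H9.FF Groth.Agent.H9.FF.Conv

variable {k : Type*} {A : Type*} {B : Type*} [CommRing k] [CommRing A] [HopfAlgebra k A]
  [CommRing B] [HopfAlgebra k B] [Algebra B A] [IsScalarTower k B A]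
  (f : B →ₐc[k] A) (hf : ∀ b, algebraMap B A b = f b)

omit [IsScalarTower k B A] [HopfAlgebra k A] in
/-- an ideal containing `f(B⁺)` contains `B⁺A` -/
lemma augIdeal_le {I : Ideal A}
    (h : ∀ b : B, Coalgebra.counit (R := k) b = 0 → algebraMap B A b ∈ I) : augIdeal k A B ≤ I := by
  rw [augIdeal, Ideal.map_le_iff_le_comap]
  intro b hb
  exact h b hb

include hf in
theorem isHopfIdeal_augIdeal : (augIdeal k A B).IsHopfIdeal k := by
  have h1 : ∀ x ∈ augIdeal k A B, Coalgebra.counit (R := k) x = 0 := by
    have hle : augIdeal k A B ≤ RingHom.ker (Bialgebra.counitAlgHom k A) := by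
      apply augIdeal_le
      intro b hb
      rw [RingHom.mem_ker, hf]
      show Coalgebra.counit (R := k) (f b) = 0
      rw [CoalgHomClass.counit_comp_apply, hb]
    intro x hx
    have h := hle hx
    rw [RingHom.mem_ker] at h
    exact h
  let F : A →ₐ[k] (A ⧸ augIdeal k A B) ⊗[k] (A ⧸ augIdeal k A B) :=
    (Algebra.TensorProduct.map (Ideal.Quotient.mkₐ k (augIdeal k A B))
      (Ideal.Quotient.mkₐ k (augIdeal k A B))).comp (Bialgebra.comulAlgHom k A)
  have hF : F.comp (f : B →ₐ[k] A) = cone := by
    have hp : (Ideal.Quotient.mkₐ k (augIdeal k A B)).comp (f : B →ₐ[k] A) = cone :=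
      proj_comp_f f hf
    show ((Algebra.TensorProduct.map (Ideal.Quotient.mkₐ k (augIdeal k A B))
      (Ideal.Quotient.mkₐ k (augIdeal k A B))).comp
      (Bialgebra.comulAlgHom k A)).comp (f : B →ₐ[k] A) = cone
    rw [← includeLeft_cmul_includeRight, comp_cmul, Algebra.TensorProduct.map_comp_includeLeft,
      Algebra.TensorProduct.map_comp_includeRight, cmul_comp_bialgHom, AlgHom.comp_assoc,
      AlgHom.comp_assoc, hp, comp_cone, comp_cone, cone_cmul]
  have h3 : ∀ x ∈ augIdeal k A B, F x = 0 := by
    have hle : augIdeal k A B ≤ RingHom.ker F := by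
      apply augIdeal_le
      intro b hb
      rw [RingHom.mem_ker, hf]
      have := congrArg (fun H : B →ₐ[k] (A ⧸ augIdeal k A B) ⊗[k] (A ⧸ augIdeal k A B) => H b) hF
      simp only [AlgHom.comp_apply] at this
      replace this : F (f b) = cone b := this
      rw [this, cone_apply, hb, map_zero]
    intro x hx
    exact (RingHom.mem_ker).mp (hle hx)
  have h5 : ∀ x ∈ augIdeal k A B, HopfAlgebra.antipode k x ∈ augIdeal k A B := by
    have hle : augIdeal k A B ≤
        Ideal.comap (HopfAlgebra.antipodeAlgHom k A) (augIdeal k A B) := by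
      apply augIdeal_le
      intro b hb
      rw [Ideal.mem_comap, hf]
      show HopfAlgebra.antipode k (f b) ∈ _
      rw [← bialgHom_antipode, ← hf]
      apply Ideal.mem_map_of_mem
      show Coalgebra.counit (R := k) (HopfAlgebra.antipode k b) = 0
      rw [HopfAlgebra.counit_antipode, hb]
    intro x hx
    exact hle hx
  exact { counit_eq_zero := fun x hx => h1 x hx
          map_mkQ_comul_eq_zero := fun x hx => h3 x hx
          antipode_mem := fun x hx => h5 x hx }

end Groth.Agent.H9.NQ
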