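import Mathlib
import Groth.Agent.Lib.Helper9.NQ.Basic
import Groth.Agent.Lib.Helper9.NQ.AugHopf
import Groth.Agent.Lib.Helper9.FF.Galois
import Groth.Agent.Lib.Helper9.FF.Main
import Groth.Agent.Lib.Helper9.FF.Apps

/-!
# The invariants of the kernel of `G → Spec B` are `B` (helper9)

For a sub-Hopf-algebra `B` of a commutative Hopf algebra `A` over a field and a bialgebra map
`p : A → C` with kernel `B⁺A`, the right-invariant functions `coinv p` are exactly `B`.
-/

namespace Groth.Agent.H9.NQ

open TensorProduct Groth.Agent.H9.FF Groth.Agent.H9.FF.Conv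

set_option linter.unusedSectionVars false
set_option linter.style.haveILetI false

universe u v w

variable {k : Type u} [Field k] {A : Type v} [CommRing A] [HopfAlgebra k A]
  {C : Type w} [CommRing C] [HopfAlgebra k C]

/-- the prelude-style description of `B⁺A` agrees with `augIdeal` -/
lemma augIdeal_eq_span (B : Subalgebra k A) (hB : IsHopfSub k A B) :
    letI := hB.hopfAlgebra
    augIdeal k A ↥B = Ideal.span {a : A | a ∈ B ∧ Coalgebra.counit (R := k) a = 0} := by
  letI := hB.hopfAlgebra
  apply le_antisymm
  · apply augIdeal_le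
    intro b hb
    apply Ideal.subset_span
    exact ⟨b.2, hb⟩
  · rw [Ideal.span_le]
    rintro a ⟨haB, ha0⟩
    have : a = algebraMap ↥B A ⟨a, haB⟩ := rfl
    rw [SetLike.mem_coe, this]
    apply Ideal.mem_map_of_mem
    exact ha0

theorem coinv_eq_of_ker_eq (B : Subalgebra k A) (hB : IsHopfSub k A B) (p : A →ₐc[k] C)
    (hker : RingHom.ker (p : A →+* C) =
      Ideal.span {a : A | a ∈ B ∧ Coalgebra.counit (R := k) a = 0}) : coinv p = B := by
  letI : HopfAlgebra k ↥B := hB.hopfAlgebra
  let f : ↥B →ₐc[k] A := hB.incl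
  have hf : ∀ b, algebraMap ↥B A b = f b := fun _ => rfl
  haveI : Module.FaithfullyFlat ↥B A := faithfullyFlat_of_isHopfSub _ hB
  have haug : augIdeal k A ↥B = RingHom.ker (p : A →+* C) := by
    rw [hker]
    exact augIdeal_eq_span B hB
  have hpf : (p : A →ₐ[k] C).comp (f : ↥B →ₐ[k] A) = cone := by
    ext b
    rw [cone_apply]
    have h1 : (b : A) - algebraMap k A (Coalgebra.counit (R := k) (b : A)) ∈
        RingHom.ker (p : A →+* C) := by
      rw [hker]
      apply Ideal.subset_span
      refine ⟨B.sub_mem b.2 (B.algebraMap_mem _), ?_⟩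
      rw [map_sub]
      simp
    rw [RingHom.mem_ker, map_sub, sub_eq_zero] at h1
    have h2 : (p : A →+* C) (algebraMap k A (Coalgebra.counit (R := k) (b : A))) =
        algebraMap k C (Coalgebra.counit (R := k) (b : A)) :=
      AlgHom.commutes (p : A →ₐ[k] C) _
    rw [h2] at h1
    exact h1
  apply le_antisymm
  · -- invariants lie in `B`
    intro a ha
    have ha' : rho p a = Algebra.TensorProduct.includeLeft a := ha
    -- the induced injection `A / B⁺A → C`
    let g : Quot k A ↥B →ₐ[k] C :=
      Ideal.Quotient.liftₐ (augIdeal k A ↥B) (p : A →ₐ[k] C) (fun x hx => by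
        rw [haug] at hx
        exact (RingHom.mem_ker).mp hx)
    have hginj : Function.Injective g := by
      have := RingHom.lift_injective_of_ker_le_ideal (augIdeal k A ↥B) (f := (p : A →+* C))
        (fun x hx => by
          rw [haug] at hx
          exact (RingHom.mem_ker).mp hx) (by rw [haug])
      exact this
    have hgp : g.comp (proj k A ↥B) = (p : A →ₐ[k] C) := by
      ext x
      rfl
    have h1 : (Algebra.TensorProduct.map (AlgHom.id k A) g).comp (coactC k A ↥B) = rho p := by
      rw [coactC, comp_cmul, i₁, Algebra.TensorProduct.map_comp_includeLeft, AlgHom.comp_id,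
        ← AlgHom.comp_assoc, i₂, Algebra.TensorProduct.map_comp_includeRight, AlgHom.comp_assoc, hgp]
      rfl
    have hinj : Function.Injective (Algebra.TensorProduct.map (AlgHom.id k A) g) := by
      have : Function.Injective (g.toLinearMap.lTensor A) :=
        Module.Flat.lTensor_preserves_injective_linearMap _ hginj
      exact this
    have h2 : coactC k A ↥B a = i₁ k A ↥B a := by
      apply hinj
      have := congrArg (fun F : A →ₐ[k] A ⊗[k] C => F a) h1
      simp only [AlgHom.comp_apply] at this
      rw [this, ha']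
      simp [i₁]
    have h3 : thetaFwd f hf (q₂ k A ↥B a) = thetaFwd f hf (q₁ k A ↥B a) := by
      have e1 := congrArg (fun F : A →ₐ[k] A ⊗[k] Quot k A ↥B => F a) (thetaFwd_comp_q₂ f hf)
      have e2 := congrArg (fun F : A →ₐ[k] A ⊗[k] Quot k A ↥B => F a) (thetaFwd_comp_q₁ f hf)
      simp only [AlgHom.comp_apply, AlgHom.coe_restrictScalars'] at e1 e2
      rw [e1, e2, h2]
    have h4 := (thetaFwd_bijective f hf).injective h3
    rw [q₁_apply, q₂_apply] at h4
    obtain ⟨b, hb⟩ := mem_range_of_tmul_eq (B := ↥B) a h4.symm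
    rw [← hb]
    exact b.2
  · -- `B` consists of invariants
    intro a ha
    show rho p a = Algebra.TensorProduct.includeLeft a
    have h1 : (rho p).comp (f : ↥B →ₐ[k] A) =
        (Algebra.TensorProduct.includeLeft).comp (f : ↥B →ₐ[k] A) := by
      rw [rho, cmul_comp_bialgHom, AlgHom.comp_assoc, hpf, comp_cone, cmul_cone]
    exact congrArg (fun F : ↥B →ₐ[k] A ⊗[k] C => F ⟨a, ha⟩) h1

end Groth.Agent.H9.NQ
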