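import Mathlib
import Groth.Agent.Lib.Helper9.FF.Galois
import Groth.Agent.Lib.Helper9.NQ.Basic
import Groth.Agent.Lib.Helper9.NQ.AugHopf

/-!
# Invariant functions on the kernel of `G → G/N` (helper9)

Let `N = Spec C` be a closed subgroup of `G = Spec A` and `B ⊆ A` a sub-Hopf-algebra over which `A`
is flat, such that `B` is the algebra of right-`N`-invariant functions.  Let `N' = Spec (A / B⁺A)`
be the kernel of `G → Spec B`.  Then the only right-`N`-invariant functions on `N'` are the
constants.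
-/

namespace Groth.Agent.H9.NQ

open TensorProduct Groth.Agent.H9.FF Groth.Agent.H9.FF.Conv

set_option linter.unusedSectionVars false

section QuotSquare

variable {k : Type*} [CommRing k] {A : Type*} [CommRing A] [HopfAlgebra k A]
  {A' : Type*} [CommRing A'] [HopfAlgebra k A'] {C : Type*} [CommRing C] [HopfAlgebra k C]
  (p : A →ₐc[k] C) (p' : A' →ₐc[k] C) (π : A →ₐc[k] A') (hπ : Function.Surjective π)
  (hcomp : (p' : A' →ₐ[k] C).comp (π : A →ₐ[k] A') = (p : A →ₐ[k] C))

include hπ hcomp in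
/-- normality passes to a quotient group containing the subgroup -/
theorem isNormalHom_of_quot (hn : IsNormalHom p) : IsNormalHom p' := by
  intro x hx
  obtain ⟨a, rfl⟩ := hπ x
  have h1 : p a = 0 := by
    have := congrArg (fun F : A →ₐ[k] C => F a) hcomp
    simp only [AlgHom.comp_apply] at this
    replace this : p' (π a) = p a := this
    rw [← this]
    exact hx
  have h2 : (Algebra.TensorProduct.map (AlgHom.id k C) (π : A →ₐ[k] A')).comp (conj' p) =
      (conj' p').comp (π : A →ₐ[k] A') := by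
    rw [comp_conj', Algebra.TensorProduct.map_comp_includeRight,
      Algebra.TensorProduct.map_comp_includeLeft, AlgHom.comp_id, conj', cmul_comp_bialgHom,
      cmul_comp_bialgHom, cinv_comp_bialgHom, AlgHom.comp_assoc, hcomp]
  have h3 := congrArg (fun F : A →ₐ[k] C ⊗[k] A' => F a) h2
  simp only [AlgHom.comp_apply] at h3
  replace h3 : Algebra.TensorProduct.map (AlgHom.id k C) (π : A →ₐ[k] A') (conj' p a) =
    conj' p' (π a) := h3
  rw [← h3, hn a h1, map_zero]

end QuotSquare

section Core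

variable {k : Type*} {A : Type*} {B : Type*} {C : Type*} [Field k] [CommRing A] [HopfAlgebra k A]
  [CommRing B] [HopfAlgebra k B] [Algebra B A] [IsScalarTower k B A]
  [CommRing C] [HopfAlgebra k C]
  (f : B →ₐc[k] A) (hf : ∀ b, algebraMap B A b = f b)
  (p : A →ₐc[k] C) (hB : ∀ a : A, a ∈ coinv p ↔ a ∈ (algebraMap B A).range)

/-- `(ε ⊗ id)` as an algebra map `A ⊗ C' → C'` -/
noncomputable def counitId (C' : Type*) [CommRing C'] [Algebra k C'] : A ⊗[k] C' →ₐ[k] C' :=
  Algebra.TensorProduct.lift ((Algebra.ofId k C').comp (Bialgebra.counitAlgHom k A))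
    (AlgHom.id k C') (fun _ _ => .all _ _)

include hB in
/-- the coaction `rho p` as a `B`-algebra map -/
noncomputable def rhoB : A →ₐ[B] A ⊗[k] C :=
  { (rho p) with
    commutes' := fun b => by
      have hb : algebraMap B A b ∈ coinv p := (hB _).mpr ⟨b, rfl⟩
      have h1 : rho p (algebraMap B A b) = Algebra.TensorProduct.includeLeft (algebraMap B A b) :=
        hb
      show rho p (algebraMap B A b) = _
      rw [h1]
      rfl }

lemma rhoB_apply (a : A) : rhoB p hB a = rho p a := rfl

/-- elements in the image of `A ⊗[B] B` are in the image of the first factor -/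
lemma exists_q₁_of_lTensor (z : A ⊗[B] B) :
    ∃ a : A, (Algebra.linearMap B A).lTensor A z = q₁ k A B a := by
  induction z using TensorProduct.induction_on with
  | zero => exact ⟨0, by simp⟩
  | tmul a b =>
    refine ⟨b • a, ?_⟩
    rw [LinearMap.lTensor_tmul, q₁_apply, Algebra.linearMap_apply, Algebra.algebraMap_eq_smul_one,
      TensorProduct.smul_tmul]
  | add x y hx hy =>
    obtain ⟨a, ha⟩ := hx
    obtain ⟨a', ha'⟩ := hy
    exact ⟨a + a', by rw [map_add, ha, ha', map_add]⟩

variable [Module.Flat B A] [hI : (augIdeal k A B).IsHopfIdeal k]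
  (p' : Quot k A B →ₐc[k] C)
  (hp' : (p' : Quot k A B →ₐ[k] C).comp (proj k A B) = (p : A →ₐ[k] C))

include hf hB hp' in
/-- the only right-`N`-invariant functions on the kernel of `G → Spec B` are the constants -/
theorem coinv_quot_eq_bot : coinv p' = ⊥ := by
  rw [eq_bot_iff]
  intro x hx
  let projB : A →ₐc[k] Quot k A B := Bialgebra.Quotient.mkBialgHom (augIdeal k A B)
  have hprojB : (projB : A →ₐ[k] Quot k A B) = proj k A B := rfl
  have hsurj : Function.Surjective (proj k A B) := Ideal.Quotient.mk_surjective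
  let inclB : A →ₐ[B] A ⊗[k] C := Algebra.TensorProduct.includeLeft
  let Lρ : A ⊗[B] A →ₐ[k] A ⊗[B] (A ⊗[k] C) :=
    (Algebra.TensorProduct.map (AlgHom.id B A) (rhoB p hB)).restrictScalars k
  let Lu : A ⊗[B] A →ₐ[k] A ⊗[B] (A ⊗[k] C) :=
    (Algebra.TensorProduct.map (AlgHom.id B A) inclB).restrictScalars k
  let t₁ : A →ₐ[k] A ⊗[B] (A ⊗[k] C) :=
    (Algebra.TensorProduct.includeLeft (S := B) : A →ₐ[B] A ⊗[B] (A ⊗[k] C)).restrictScalars k
  let tR : A ⊗[k] C →ₐ[k] A ⊗[B] (A ⊗[k] C) :=
    (Algebra.TensorProduct.includeRight : A ⊗[k] C →ₐ[B] A ⊗[B] (A ⊗[k] C)).restrictScalars k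
  have e1 : Lρ.comp (q₁ k A B) = t₁ := by
    ext a
    simp [Lρ, t₁, q₁_apply]
  have e2 : Lρ.comp (q₂ k A B) = tR.comp (rho p) := by
    ext a
    simp [Lρ, tR, q₂_apply, rhoB_apply]
  have e3 : Lu.comp (q₁ k A B) = t₁ := by
    ext a
    simp [Lu, t₁, q₁_apply]
  have e4 : Lu.comp (q₂ k A B) = tR.comp Algebra.TensorProduct.includeLeft := by
    ext a
    simp [Lu, tR, q₂_apply, inclB]
  let t₃ : C →ₐ[k] A ⊗[B] (A ⊗[k] C) := tR.comp Algebra.TensorProduct.includeRight
  have hgam : Lρ.comp (gam (k := k) (A := A) (B := B)) =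
      cmul (Lu.comp (gam (k := k) (A := A) (B := B))) (t₃.comp (p : A →ₐ[k] C)) := by
    rw [gam, comp_cmul, comp_cmul, comp_cinv, comp_cinv, e1, e2, e3, e4, rho, comp_cmul,
      ← cmul_assoc, ← AlgHom.comp_assoc]
  have key : Lρ.comp (gamBar f hf) =
      cmul (Lu.comp (gamBar f hf)) (t₃.comp (p' : Quot k A B →ₐ[k] C)) := by
    have hL : (Lρ.comp (gamBar f hf)).comp (proj k A B) =
        cmul (Lu.comp (gam (k := k) (A := A) (B := B))) (t₃.comp (p : A →ₐ[k] C)) := by
      rw [AlgHom.comp_assoc, gamBar_comp_proj, hgam]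
    have hR : (cmul (Lu.comp (gamBar f hf)) (t₃.comp (p' : Quot k A B →ₐ[k] C))).comp
        (proj k A B) =
        cmul (Lu.comp (gam (k := k) (A := A) (B := B))) (t₃.comp (p : A →ₐ[k] C)) := by
      have h0 : (cmul (Lu.comp (gamBar f hf)) (t₃.comp (p' : Quot k A B →ₐ[k] C))).comp
          (projB : A →ₐ[k] Quot k A B) =
          cmul ((Lu.comp (gamBar f hf)).comp (projB : A →ₐ[k] Quot k A B))
            ((t₃.comp (p' : Quot k A B →ₐ[k] C)).comp (projB : A →ₐ[k] Quot k A B)) :=
        cmul_comp_bialgHom _ _ projB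
      rw [hprojB] at h0
      rw [h0, AlgHom.comp_assoc Lu, gamBar_comp_proj, AlgHom.comp_assoc t₃, hp']
    rw [← AlgHom.cancel_right (f := proj k A B) hsurj, hL, hR]
  have hx1 : Lρ (gamBar f hf x) = Lu (gamBar f hf x) := by
    have := congrArg (fun F : Quot k A B →ₐ[k] A ⊗[B] (A ⊗[k] C) => F x) key
    simp only [AlgHom.comp_apply] at this
    rw [this, cmul_apply_of_mem_coinv hx, AlgHom.comp_apply]
  -- exactness
  let d : A →ₗ[B] A ⊗[k] C := (rhoB p hB).toLinearMap - inclB.toLinearMap
  have hex : Function.Exact (Algebra.linearMap B A) d := by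
    intro a
    constructor
    · intro ha
      have h1 : rho p a = (Algebra.TensorProduct.includeLeft : A →ₐ[k] A ⊗[k] C) a := by
        have : rho p a - (Algebra.TensorProduct.includeLeft : A →ₐ[k] A ⊗[k] C) a = 0 := ha
        exact sub_eq_zero.mp this
      obtain ⟨b, hb⟩ := (hB a).mp h1
      exact ⟨b, hb⟩
    · rintro ⟨b, rfl⟩
      have h1 : rho p (algebraMap B A b) =
          (Algebra.TensorProduct.includeLeft : A →ₐ[k] A ⊗[k] C) (algebraMap B A b) :=
        (hB _).mpr ⟨b, rfl⟩
      show rho p (algebraMap B A b) -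
        (Algebra.TensorProduct.includeLeft : A →ₐ[k] A ⊗[k] C) (algebraMap B A b) = 0
      rw [h1, sub_self]
  have hex' := Module.Flat.lTensor_exact A hex
  have hd : d.lTensor A (gamBar f hf x) = 0 := by
    have h1 : d.lTensor A (gamBar f hf x) = Lρ (gamBar f hf x) - Lu (gamBar f hf x) := by
      show (LinearMap.lTensor A ((rhoB p hB).toLinearMap - inclB.toLinearMap)) _ = _
      rw [LinearMap.lTensor_sub]
      rfl
    rw [h1, hx1, sub_self]
  obtain ⟨z, hz⟩ := (hex' _).mp hd
  obtain ⟨a, ha⟩ := exists_q₁_of_lTensor (k := k) z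
  rw [hz] at ha
  -- apply the Galois map
  have h1 : thetaFwd f hf (gamBar f hf x) = i₂ k A B x := by
    have h2 := congrArg (fun F : A ⊗[k] Quot k A B →ₐ[k] A ⊗[k] Quot k A B => F (i₂ k A B x))
      (thetaFwd_comp_thetaBwd f hf)
    simp only [AlgHom.comp_apply, AlgHom.id_apply] at h2
    have h3 : thetaBwd f hf (i₂ k A B x) = gamBar f hf x := by
      have := congrArg (fun F : Quot k A B →ₐ[k] A ⊗[B] A => F x) (thetaBwd_comp_i₂ f hf)
      simpa using this
    rw [h3] at h2
    exact h2
  have h4 : thetaFwd f hf (q₁ k A B a) = i₁ k A B a := by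
    have := congrArg (fun F : A →ₐ[k] A ⊗[k] Quot k A B => F a) (thetaFwd_comp_q₁ f hf)
    simpa using this
  rw [ha, h4] at h1
  have h5 := congrArg (counitId (k := k) (A := A) (Quot k A B)) h1
  have h6 : counitId (k := k) (A := A) (Quot k A B) (i₁ k A B a) =
      algebraMap k (Quot k A B) (Coalgebra.counit (R := k) a) := by
    simp [counitId, i₁]
  have h7 : counitId (k := k) (A := A) (Quot k A B) (i₂ k A B x) = x := by
    simp [counitId, i₂]
  rw [h6, h7] at h5
  rw [Algebra.mem_bot]
  exact ⟨_, h5⟩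

end Core

end Groth.Agent.H9.NQ
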