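import Mathlib

/-!
# Recognising bialgebra maps (helper9)

An algebra map which becomes a bialgebra map after composing with an injective bialgebra map (over a
field), or after precomposing with a surjective bialgebra map, is a bialgebra map.
-/

namespace Groth.Agent.H9.NQ

open TensorProduct

section Inj

variable {k : Type*} {A₀ : Type*} {C₀ : Type*} {C : Type*} [Field k]
  [CommRing A₀] [Bialgebra k A₀] [CommRing C₀] [Bialgebra k C₀] [CommRing C] [Bialgebra k C]

lemma map_algHom_injective {A : Type*} [CommRing A] [Algebra k A] {j : C₀ →ₐ[k] C}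
    (hj : Function.Injective j) {j' : A₀ →ₐ[k] A} (hj' : Function.Injective j') :
    Function.Injective (Algebra.TensorProduct.map j j') := by
  have : Function.Injective (TensorProduct.map j.toLinearMap j'.toLinearMap) :=
    TensorProduct.map_injective_of_flat_flat _ _ hj hj'
  exact this

/-- an algebra map `g` such that `j ∘ g` is a bialgebra map, for an injective bialgebra map `j`,
is a bialgebra map -/
noncomputable def bialgHomOfInjective (j : C₀ →ₐc[k] C) (hj : Function.Injective j)
    (f : A₀ →ₐc[k] C) (g : A₀ →ₐ[k] C₀) (h : (j : C₀ →ₐ[k] C).comp g = (f : A₀ →ₐ[k] C)) :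
    A₀ →ₐc[k] C₀ :=
  BialgHom.ofAlgHom g
    (by
      rw [← BialgHom.counitAlgHom_comp j, AlgHom.comp_assoc, h]
      exact BialgHom.counitAlgHom_comp f)
    (by
      have hinj : Function.Injective (Algebra.TensorProduct.map (j : C₀ →ₐ[k] C)
          (j : C₀ →ₐ[k] C)) := by
        have : Function.Injective (TensorProduct.map (j : C₀ →ₐ[k] C).toLinearMap
            (j : C₀ →ₐ[k] C).toLinearMap) :=
          TensorProduct.map_injective_of_flat_flat _ _ hj hj
        exact this
      rw [← AlgHom.cancel_left hinj, ← AlgHom.comp_assoc, ← Algebra.TensorProduct.map_comp, h,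
        ← AlgHom.comp_assoc]
      have h1 := BialgHom.map_comp_comulAlgHom j
      have h2 := BialgHom.map_comp_comulAlgHom f
      rw [h1, AlgHom.comp_assoc, h]
      exact h2)

@[simp] lemma bialgHomOfInjective_apply (j : C₀ →ₐc[k] C) (hj : Function.Injective j)
    (f : A₀ →ₐc[k] C) (g : A₀ →ₐ[k] C₀) (h : (j : C₀ →ₐ[k] C).comp g = (f : A₀ →ₐ[k] C))
    (x : A₀) : bialgHomOfInjective j hj f g h x = g x := rfl

end Inj

section Surj

variable {k : Type*} {A : Type*} {C₁ : Type*} {C₂ : Type*} [CommRing k]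
  [CommRing A] [Bialgebra k A] [CommRing C₁] [Bialgebra k C₁] [CommRing C₂] [Bialgebra k C₂]

/-- an algebra map `g` such that `g ∘ π` is a bialgebra map, for a surjective bialgebra map `π`,
is a bialgebra map -/
noncomputable def bialgHomOfSurjective (π : A →ₐc[k] C₁) (hπ : Function.Surjective π)
    (f : A →ₐc[k] C₂) (g : C₁ →ₐ[k] C₂) (h : g.comp (π : A →ₐ[k] C₁) = (f : A →ₐ[k] C₂)) :
    C₁ →ₐc[k] C₂ :=
  BialgHom.ofAlgHom g
    (by
      rw [← AlgHom.cancel_right (f := (π : A →ₐ[k] C₁)) hπ, AlgHom.comp_assoc, h]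
      exact (BialgHom.counitAlgHom_comp f).trans (BialgHom.counitAlgHom_comp π).symm)
    (by
      rw [← AlgHom.cancel_right (f := (π : A →ₐ[k] C₁)) hπ, AlgHom.comp_assoc, AlgHom.comp_assoc, h]
      have h1 := BialgHom.map_comp_comulAlgHom π
      have h2 := BialgHom.map_comp_comulAlgHom f
      rw [← h1, ← AlgHom.comp_assoc, ← Algebra.TensorProduct.map_comp, h]
      exact h2)

@[simp] lemma bialgHomOfSurjective_apply (π : A →ₐc[k] C₁) (hπ : Function.Surjective π)
    (f : A →ₐc[k] C₂) (g : C₁ →ₐ[k] C₂) (h : g.comp (π : A →ₐ[k] C₁) = (f : A →ₐ[k] C₂))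
    (x : C₁) : bialgHomOfSurjective π hπ f g h x = g x := rfl

end Surj

end Groth.Agent.H9.NQ
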