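import Mathlib
import Groth.Agent.Lib.Helper9.NQ.Basic
import Groth.Agent.Lib.Helper9.ComodStab
import Groth.Agent.Lib.Helper9.ComodChevalley

/-!
# A normal subgroup with only constant invariant functions is the whole group (helper9)

Finite type case, through Chevalley's theorem.
-/

namespace Groth.Agent.H9.NQ

open TensorProduct Groth.Agent.H9.FF Groth.Agent.H9.FF.Conv Groth.Agent.H9.Comod
  Groth.Agent.H9.Stab

set_option linter.unusedSectionVars false
set_option linter.style.haveILetI false

section GroupLike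

variable {k : Type*} {C : Type*} {R : Type*} [CommRing k] [CommRing C] [HopfAlgebra k C]
  [CommRing R] [Algebra k R]

lemma cmul_apply_groupLike {χ : C} (hχ : IsGroupLikeElem k χ) (f g : C →ₐ[k] R) :
    cmul f g χ = f χ * g χ := by
  rw [cmul_apply, hχ.comul_eq_tmul_self, Algebra.TensorProduct.lift_tmul]

lemma cinv_mul_apply_groupLike {χ : C} (hχ : IsGroupLikeElem k χ) (f : C →ₐ[k] R) :
    cinv f χ * f χ = 1 := by
  rw [cinv_apply, ← map_mul, hχ.antipode_mul_cancel, map_one]

lemma mul_antipode_mem_coinv {A : Type*} [CommRing A] [HopfAlgebra k A] {p : A →ₐc[k] C}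
    {χ : C} (hχ : IsGroupLikeElem k χ) {a a' : A} (ha : RChar p χ a)
    (ha' : LChar p χ a') : a * HopfAlgebra.antipode k a' ∈ coinv p := by
  show rho p (a * HopfAlgebra.antipode k a') =
    Algebra.TensorProduct.includeLeft (a * HopfAlgebra.antipode k a')
  have h1 : rho p (HopfAlgebra.antipode k a') = cinv (rho p) a' := rfl
  rw [map_mul, ha, h1, rho, cinv_cmul_rev, ← cinv_comp_bialgHom, ha'.cmul_apply, cinv_apply,
    cinv_apply, Algebra.TensorProduct.includeRight_apply, Algebra.TensorProduct.includeLeft_apply,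
    Algebra.TensorProduct.tmul_mul_tmul, Algebra.TensorProduct.tmul_mul_tmul, one_mul, mul_one,
    hχ.mul_antipode_cancel]
  rfl

end GroupLike

section Field

universe u v w

variable {k : Type u} [Field k] {A : Type v} [CommRing A] [HopfAlgebra k A]
  {C : Type w} [CommRing C] [HopfAlgebra k C] {p : A →ₐc[k] C}
  (hp : Function.Surjective p) (hn : IsNormalHom p)

lemma eq_algebraMap_of_coinv_eq_bot (h : coinv p = ⊥) {a : A} (ha : a ∈ coinv p) :
    a = algebraMap k A (Coalgebra.counit (R := k) a) := by
  rw [h, Algebra.mem_bot] at ha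
  obtain ⟨c, rfl⟩ := ha
  simp

/-- `(id ⊗ ε)` as an algebra map `C ⊗ A → C` -/
noncomputable def idCounit : C ⊗[k] A →ₐ[k] C :=
  Algebra.TensorProduct.lift (AlgHom.id k C) ((Algebra.ofId k C).comp (Bialgebra.counitAlgHom k A))
    (fun _ _ => .all _ _)

lemma idCounit_eq_slice (x : C ⊗[k] A) :
    idCounit x = slice (Coalgebra.counit (R := k) (A := A)) x := by
  induction x using TensorProduct.induction_on with
  | zero => simp
  | tmul c a =>
    rw [idCounit, Algebra.TensorProduct.lift_tmul, slice_tmul]
    simp [Algebra.smul_def, mul_comm]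
  | add x y hx hy => rw [map_add, map_add, hx, hy]

lemma idCounit_comp_conjLift : (idCounit (k := k) (A := A) (C := C)).comp (conjLift hp hn) =
    AlgHom.id k C := by
  rw [← AlgHom.cancel_right (f := (p : A →ₐ[k] C)) hp, AlgHom.comp_assoc, conjLift_comp,
    comp_conj', AlgHom.id_comp]
  have h1 : (idCounit (k := k) (A := A) (C := C)).comp Algebra.TensorProduct.includeRight =
      cone := by
    rw [idCounit, Algebra.TensorProduct.lift_comp_includeRight']
    rfl
  have h2 : (idCounit (k := k) (A := A) (C := C)).comp Algebra.TensorProduct.includeLeft =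
      AlgHom.id k C := by
    rw [idCounit, Algebra.TensorProduct.lift_comp_includeLeft]
  rw [h1, h2, cinv_cone, cone_cmul, cmul_cone, AlgHom.id_comp]

/-- conjugation moves a character of `N` only by right-invariant functions -/
lemma map_rho_conjLift {χ : C} (hχ : IsGroupLikeElem k χ) :
    Algebra.TensorProduct.map (AlgHom.id k C) (rho p) (conjLift hp hn χ) =
      Algebra.TensorProduct.map (AlgHom.id k C)
        (Algebra.TensorProduct.includeLeft : A →ₐ[k] A ⊗[k] C) (conjLift hp hn χ) := by
  set Φ := Algebra.TensorProduct.map (AlgHom.id k C) (rho p) with hΦ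
  set Ψ := Algebra.TensorProduct.map (AlgHom.id k C)
    (Algebra.TensorProduct.includeLeft : A →ₐ[k] A ⊗[k] C) with hΨ
  set ν₃ : C →ₐ[k] C ⊗[k] (A ⊗[k] C) :=
    (Algebra.TensorProduct.includeRight).comp (Algebra.TensorProduct.includeRight) with hν₃
  have key : Φ.comp (conjLift hp hn) = cmul (cmul (cinv ν₃) (Ψ.comp (conjLift hp hn))) ν₃ := by
    have h1 : Φ.comp Algebra.TensorProduct.includeRight =
        cmul ((Algebra.TensorProduct.includeRight).comp (Algebra.TensorProduct.includeLeft))
          (ν₃.comp (p : A →ₐ[k] C)) := by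
      rw [hΦ, Algebra.TensorProduct.map_comp_includeRight, rho, comp_cmul, ← AlgHom.comp_assoc]
    have h2 : Φ.comp Algebra.TensorProduct.includeLeft = Algebra.TensorProduct.includeLeft := by
      rw [hΦ, Algebra.TensorProduct.map_comp_includeLeft, AlgHom.comp_id]
    have h3 : Ψ.comp Algebra.TensorProduct.includeRight =
        (Algebra.TensorProduct.includeRight).comp (Algebra.TensorProduct.includeLeft) := by
      rw [hΨ, Algebra.TensorProduct.map_comp_includeRight]
    have h4 : Ψ.comp Algebra.TensorProduct.includeLeft = Algebra.TensorProduct.includeLeft := by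
      rw [hΨ, Algebra.TensorProduct.map_comp_includeLeft, AlgHom.comp_id]
    have hL : (Φ.comp (conjLift hp hn)).comp (p : A →ₐ[k] C) =
        cmul (cmul (cinv (cmul ((Algebra.TensorProduct.includeRight).comp
          (Algebra.TensorProduct.includeLeft)) (ν₃.comp (p : A →ₐ[k] C))))
          ((Algebra.TensorProduct.includeLeft).comp (p : A →ₐ[k] C)))
          (cmul ((Algebra.TensorProduct.includeRight).comp
          (Algebra.TensorProduct.includeLeft)) (ν₃.comp (p : A →ₐ[k] C))) := by
      rw [AlgHom.comp_assoc, conjLift_comp, comp_conj', h1, h2]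
    have hR : (cmul (cmul (cinv ν₃) (Ψ.comp (conjLift hp hn))) ν₃).comp (p : A →ₐ[k] C) =
        cmul (cmul (cinv (ν₃.comp (p : A →ₐ[k] C)))
          (cmul (cmul (cinv ((Algebra.TensorProduct.includeRight).comp
          (Algebra.TensorProduct.includeLeft)))
          ((Algebra.TensorProduct.includeLeft).comp (p : A →ₐ[k] C)))
          ((Algebra.TensorProduct.includeRight).comp
          (Algebra.TensorProduct.includeLeft)))) (ν₃.comp (p : A →ₐ[k] C)) := by
      rw [cmul_comp_bialgHom, cmul_comp_bialgHom, cinv_comp_bialgHom,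
        AlgHom.comp_assoc Ψ, conjLift_comp, comp_conj', h3, h4]
    rw [← AlgHom.cancel_right (f := (p : A →ₐ[k] C)) hp, hL, hR]
    simp only [cinv_cmul_rev, cmul_assoc]
  have h5 := congrArg (fun F : C →ₐ[k] C ⊗[k] (A ⊗[k] C) => F χ) key
  simp only [AlgHom.comp_apply] at h5
  rw [h5, cmul_apply_groupLike hχ, cmul_apply_groupLike hχ, mul_comm (cinv ν₃ χ), mul_assoc,
    cinv_mul_apply_groupLike hχ, mul_one, AlgHom.comp_apply]

/-- if the only `N`-invariant functions are the constants, conjugation fixes every character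
of `N` -/
theorem conjLift_groupLike (h : coinv p = ⊥) {χ : C} (hχ : IsGroupLikeElem k χ) :
    conjLift hp hn χ = χ ⊗ₜ[k] (1 : A) := by
  rw [← sub_eq_zero]
  apply eq_zero_of_sliceL_eq_zero
  intro φ
  rw [map_sub, sub_eq_zero, sliceL_tmul]
  have hmem : sliceL φ (conjLift hp hn χ) ∈ coinv p := by
    show rho p (sliceL φ (conjLift hp hn χ)) =
      Algebra.TensorProduct.includeLeft (sliceL φ (conjLift hp hn χ))
    have e1 : rho p (sliceL φ (conjLift hp hn χ)) =
        sliceL φ ((rho p).toLinearMap.lTensor C (conjLift hp hn χ)) :=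
      (sliceL_lTensor φ (rho p).toLinearMap _).symm
    have e2 : (Algebra.TensorProduct.includeLeft : A →ₐ[k] A ⊗[k] C)
        (sliceL φ (conjLift hp hn χ)) =
        sliceL φ ((Algebra.TensorProduct.includeLeft : A →ₐ[k] A ⊗[k] C).toLinearMap.lTensor C
          (conjLift hp hn χ)) :=
      (sliceL_lTensor φ (Algebra.TensorProduct.includeLeft : A →ₐ[k] A ⊗[k] C).toLinearMap _).symm
    rw [e1, e2]
    congr 1
    exact map_rho_conjLift hp hn hχ
  rw [eq_algebraMap_of_coinv_eq_bot h hmem, apply_sliceL, ← idCounit_eq_slice,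
    ← AlgHom.comp_apply, idCounit_comp_conjLift, AlgHom.id_apply, Algebra.algebraMap_eq_smul_one]

end Field

section FiniteType

universe u

variable {k : Type u} [Field k] {A : Type u} [CommRing A] [HopfAlgebra k A]
  {C : Type u} [CommRing C] [HopfAlgebra k C] {p : A →ₐc[k] C}

/-- matrix coefficients of an eigenvector of `N` transform on the right by its character -/
lemma rchar_mcoef {V : Type*} [AddCommGroup V] [Module k V] [HopfRep.Comod k A V] {v : V} {χ : C}
    (hv : (p : A →ₐ[k] C).toLinearMap.lTensor V (HopfRep.Comod.coact (k := k) (A := A) v) =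
      v ⊗ₜ[k] χ) (ψ : V →ₗ[k] k) : RChar p χ (mcoef A ψ v) := by
  unfold RChar
  rw [rho_apply, comul_mcoef, ← LinearMap.comp_apply, LinearMap.lTensor_comp_rTensor,
    ← LinearMap.rTensor_comp_lTensor, LinearMap.comp_apply, hv, LinearMap.rTensor_tmul]

/-- **trivial invariants, finite type case**: a normal closed subgroup `N` of an algebraic group
`G` such that the only right-`N`-invariant functions on `G` are the constants is all of `G` -/
theorem injective_of_coinv_eq_bot_of_finiteType [Algebra.FiniteType k A]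
    (hp : Function.Surjective p) (hn : IsNormalHom p) (h : coinv p = ⊥) :
    Function.Injective p := by
  obtain ⟨χ, V, _, _, c, _, v, hv, hstab, hχv⟩ := Chevalley.exists_hasLine p hp
  have hχ : IsGroupLikeElem k χ := Chevalley.isGroupLikeElem_of_eigen p c hv hχv
  have hfix := conjLift_groupLike hp hn h hχ
  letI : HopfRep.Comod k A V := c
  have hR : ∀ ψ : V →ₗ[k] k, RChar p χ (mcoef A ψ v) := fun ψ => rchar_mcoef hχv ψ
  have hL : ∀ ψ : V →ₗ[k] k, LChar p χ (mcoef A ψ v) :=
    fun ψ => LChar_of_RChar hp hn hfix (hR ψ)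
  obtain ⟨ψ₀, hψ₀⟩ := Chevalley.exists_dual_eq_one (k := k) hv
  set a' := mcoef A ψ₀ v with ha'
  have hprod : ∀ ψ : V →ₗ[k] k,
      mcoef A ψ v * HopfAlgebra.antipode k a' = algebraMap k A (ψ v) := by
    intro ψ
    have hm := mul_antipode_mem_coinv hχ (hR ψ) (hL ψ₀)
    rw [eq_algebraMap_of_coinv_eq_bot h hm, Bialgebra.counit_mul, counit_mcoef,
      HopfAlgebra.counit_antipode, counit_mcoef, hψ₀, mul_one]
  have hunit : a' * HopfAlgebra.antipode k a' = 1 := by rw [hprod ψ₀, hψ₀, map_one]
  have hcoef : ∀ ψ : V →ₗ[k] k, mcoef A ψ v = ψ v • a' := by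
    intro ψ
    calc mcoef A ψ v = mcoef A ψ v * (a' * HopfAlgebra.antipode k a') := by rw [hunit, mul_one]
      _ = (mcoef A ψ v * HopfAlgebra.antipode k a') * a' := by ring
      _ = ψ v • a' := by rw [hprod, Algebra.smul_def]
  have hcoact : c.coact v = v ⊗ₜ[k] a' := by
    rw [← sub_eq_zero]
    apply eq_zero_of_sliceL_eq_zero
    intro ψ
    rw [map_sub, sub_eq_zero, sliceL_tmul]
    exact hcoef ψ
  have hkill := (hstab A (AlgHom.id k A)).mpr ⟨a', by
    rw [hcoact, LinearMap.lTensor_tmul]
    rfl⟩
  rw [injective_iff_map_eq_zero]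
  intro a ha
  exact hkill a ((RingHom.mem_ker).mpr ha)

end FiniteType

end Groth.Agent.H9.NQ
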