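import Mathlib
import Groth.Agent.Lib.Helper9.NQ.Basic
import Groth.Agent.Lib.Helper9.NQ.Triv
import Groth.Agent.Lib.Helper9.NQ.BialgHom
import Groth.Agent.Lib.Helper9.FF.FGSub
import Groth.Agent.Lib.Helper9.FF.Apps

/-!
# Trivial invariants: reduction to the finite type case (helper9)
-/

namespace Groth.Agent.H9.NQ

open TensorProduct Groth.Agent.H9.FF Groth.Agent.H9.FF.Conv

set_option linter.unusedSectionVars false
set_option linter.style.haveILetI false

section Square

variable {k : Type*} [Field k] {A : Type*} [CommRing A] [HopfAlgebra k A]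
  {C : Type*} [CommRing C] [HopfAlgebra k C] {A₀ : Type*} [CommRing A₀] [HopfAlgebra k A₀]
  {C₀ : Type*} [CommRing C₀] [HopfAlgebra k C₀]
  (p : A →ₐc[k] C) (p₀ : A₀ →ₐc[k] C₀) (jA : A₀ →ₐc[k] A) (jC : C₀ →ₐc[k] C)
  (hsq : (jC : C₀ →ₐ[k] C).comp (p₀ : A₀ →ₐ[k] C₀) = (p : A →ₐ[k] C).comp (jA : A₀ →ₐ[k] A))
  (hjA : Function.Injective jA) (hjC : Function.Injective jC)

include hsq in
lemma map_conj'_square (a : A₀) :
    Algebra.TensorProduct.map (jC : C₀ →ₐ[k] C) (jA : A₀ →ₐ[k] A) (conj' p₀ a) =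
      conj' p (jA a) := by
  have h : (Algebra.TensorProduct.map (jC : C₀ →ₐ[k] C) (jA : A₀ →ₐ[k] A)).comp (conj' p₀) =
      (conj' p).comp (jA : A₀ →ₐ[k] A) := by
    rw [comp_conj', Algebra.TensorProduct.map_comp_includeRight,
      Algebra.TensorProduct.map_comp_includeLeft, AlgHom.comp_assoc, hsq, conj',
      cmul_comp_bialgHom, cmul_comp_bialgHom, cinv_comp_bialgHom, AlgHom.comp_assoc]
  exact congrArg (fun F : A₀ →ₐ[k] C ⊗[k] A => F a) h

include hsq in
lemma map_rho_square (a : A₀) :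
    Algebra.TensorProduct.map (jA : A₀ →ₐ[k] A) (jC : C₀ →ₐ[k] C) (rho p₀ a) =
      rho p (jA a) := by
  have h : (Algebra.TensorProduct.map (jA : A₀ →ₐ[k] A) (jC : C₀ →ₐ[k] C)).comp (rho p₀) =
      (rho p).comp (jA : A₀ →ₐ[k] A) := by
    rw [rho, comp_cmul, Algebra.TensorProduct.map_comp_includeLeft, ← AlgHom.comp_assoc,
      Algebra.TensorProduct.map_comp_includeRight, AlgHom.comp_assoc, hsq, rho,
      cmul_comp_bialgHom, AlgHom.comp_assoc]
  exact congrArg (fun F : A₀ →ₐ[k] A ⊗[k] C => F a) h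

include hsq hjA hjC in
/-- normality restricts to a sub-square -/
theorem isNormalHom_of_square (hn : IsNormalHom p) : IsNormalHom p₀ := by
  intro a ha
  have h1 : p (jA a) = 0 := by
    have := congrArg (fun F : A₀ →ₐ[k] C => F a) hsq
    simp only [AlgHom.comp_apply] at this
    replace this : jC (p₀ a) = p (jA a) := this
    rw [← this, ha, map_zero]
  have h2 := map_conj'_square p p₀ jA jC hsq a
  rw [hn _ h1] at h2
  have hjC' : Function.Injective (jC : C₀ →ₐ[k] C) := hjC
  have hjA' : Function.Injective (jA : A₀ →ₐ[k] A) := hjA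
  have hinj := map_algHom_injective hjC' hjA'
  apply hinj
  rw [h2, map_zero]

include hsq hjA hjC in
/-- triviality of the invariants restricts to a sub-square -/
theorem coinv_eq_bot_of_square (h : coinv p = ⊥) : coinv p₀ = ⊥ := by
  rw [eq_bot_iff]
  intro a ha
  have ha' : rho p₀ a = Algebra.TensorProduct.includeLeft a := ha
  have h1 : jA a ∈ coinv p := by
    show rho p (jA a) = Algebra.TensorProduct.includeLeft (jA a)
    rw [← map_rho_square p p₀ jA jC hsq, ha']
    simp
  rw [h, Algebra.mem_bot] at h1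
  obtain ⟨c, hc⟩ := h1
  rw [Algebra.mem_bot]
  refine ⟨c, hjA ?_⟩
  rw [← hc]
  exact (AlgHom.commutes (jA : A₀ →ₐ[k] A) c)

end Square

section General

universe u

variable {k : Type u} [Field k] {A : Type u} [CommRing A] [HopfAlgebra k A]
  {C : Type u} [CommRing C] [HopfAlgebra k C] {p : A →ₐc[k] C}

/-- **trivial invariants**: a normal closed subgroup `N` of an affine group `G` over a field such
that the only right-`N`-invariant functions on `G` are the constants is all of `G` -/
theorem injective_of_coinv_eq_bot (hn : IsNormalHom p)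
    (h : coinv p = ⊥) : Function.Injective p := by
  rw [injective_iff_map_eq_zero]
  intro a ha
  classical
  obtain ⟨B, hB, hBfg, haB⟩ := exists_fg_isHopfSub (k := k) ({a} : Finset A)
  have haB' : a ∈ B := haB (by simp)
  letI : HopfAlgebra k ↥B := hB.hopfAlgebra
  let jA : ↥B →ₐc[k] A := hB.incl
  have hjA : Function.Injective jA := Subtype.val_injective
  let f : ↥B →ₐc[k] C := p.comp jA
  let D : Subalgebra k C := (f : ↥B →ₐ[k] C).range
  have hD : IsHopfSub k C D := isHopfSub_range f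
  letI : HopfAlgebra k ↥D := hD.hopfAlgebra
  let jC : ↥D →ₐc[k] C := hD.incl
  have hjC : Function.Injective jC := Subtype.val_injective
  let g : ↥B →ₐ[k] ↥D := (f : ↥B →ₐ[k] C).rangeRestrict
  let p₀ : ↥B →ₐc[k] ↥D := bialgHomOfInjective jC hjC f g (by ext x; rfl)
  have hp₀ : Function.Surjective p₀ := (f : ↥B →ₐ[k] C).rangeRestrict_surjective
  have hsq : (jC : ↥D →ₐ[k] C).comp (p₀ : ↥B →ₐ[k] ↥D) =
      (p : A →ₐ[k] C).comp (jA : ↥B →ₐ[k] A) := by
    ext x
    rfl
  haveI : Algebra.FiniteType k ↥B := (Subalgebra.fg_iff_finiteType B).mp hBfg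
  have hn₀ := isNormalHom_of_square p p₀ jA jC hsq hjA hjC hn
  have h₀ := coinv_eq_bot_of_square p p₀ jA jC hsq hjA hjC h
  have hinj := injective_of_coinv_eq_bot_of_finiteType hp₀ hn₀ h₀
  have h1 : p₀ ⟨a, haB'⟩ = 0 := by
    apply hjC
    rw [map_zero]
    exact ha
  have h2 : (⟨a, haB'⟩ : ↥B) = 0 := hinj (h1.trans (map_zero _).symm)
  exact congrArg Subtype.val h2

end General

end Groth.Agent.H9.NQ
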