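import Mathlib
import Groth.Agent.Lib.Helper9.NQ.Basic
import Groth.Agent.Lib.Helper9.NQ.Restrict
import Groth.Agent.Lib.Helper9.NQ.Descent
import Groth.Agent.Lib.Helper9.FF.Main

/-!
# The quotient of an affine group by a normal closed subgroup (helper9)

For a surjective bialgebra map `p : A → C` of commutative Hopf algebras over a field with normal
kernel (a normal closed subgroup `N = Spec C` of `G = Spec A`), the algebra `coinv p` of
right-`N`-invariant functions is a sub-Hopf-algebra, `A` is faithfully flat over it, and the kernel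
of `p` is generated by the augmentation ideal of `coinv p`.
-/

namespace Groth.Agent.H9.NQ

open TensorProduct Groth.Agent.H9.FF Groth.Agent.H9.FF.Conv

set_option linter.unusedSectionVars false
set_option linter.style.haveILetI false

universe u

variable {k : Type u} [Field k] {A : Type u} [CommRing A] [HopfAlgebra k A]
  {C : Type u} [CommRing C] [HopfAlgebra k C] {p : A →ₐc[k] C}

/-- invariant functions with zero counit vanish on the subgroup -/
lemma span_le_ker :
    Ideal.span {a : A | a ∈ coinv p ∧ Coalgebra.counit (R := k) a = 0} ≤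
      RingHom.ker (p : A →+* C) := by
  rw [Ideal.span_le]
  rintro a ⟨ha, ha0⟩
  rw [SetLike.mem_coe, RingHom.mem_ker]
  show p a = 0
  rw [apply_of_mem_coinv ha, ha0, map_zero]

/-- **the quotient by a normal subgroup**: the ideal of a normal closed subgroup `N` of `G` is
generated by the right-`N`-invariant functions vanishing at the identity -/
theorem ker_eq_span_coinv (hp : Function.Surjective p) (hn : IsNormalHom p) :
    RingHom.ker (p : A →+* C) =
      Ideal.span {a : A | a ∈ coinv p ∧ Coalgebra.counit (R := k) a = 0} := by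
  apply le_antisymm _ span_le_ker
  have hB : IsHopfSub k A (coinv p) := isHopfSub_coinv hp hn
  letI : HopfAlgebra k ↥(coinv p) := hB.hopfAlgebra
  let f : ↥(coinv p) →ₐc[k] A := hB.incl
  have hf : ∀ b, algebraMap ↥(coinv p) A b = f b := fun _ => rfl
  haveI : Module.FaithfullyFlat ↥(coinv p) A := faithfullyFlat_of_isHopfSub _ hB
  haveI hI : (augIdeal k A ↥(coinv p)).IsHopfIdeal k := isHopfIdeal_augIdeal f hf
  have hcounit : ∀ b : ↥(coinv p), Coalgebra.counit (R := k) b =
      Coalgebra.counit (R := k) (b : A) := fun b => rfl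
  have hle : augIdeal k A ↥(coinv p) ≤ RingHom.ker (p : A →+* C) := by
    apply augIdeal_le
    intro b hb
    rw [RingHom.mem_ker]
    show p (b : A) = 0
    rw [apply_of_mem_coinv b.2, ← hcounit, hb, map_zero]
  have hle' : augIdeal k A ↥(coinv p) ≤
      Ideal.span {a : A | a ∈ coinv p ∧ Coalgebra.counit (R := k) a = 0} := by
    apply augIdeal_le
    intro b hb
    apply Ideal.subset_span
    exact ⟨b.2, by rw [← hb]; rfl⟩
  let projB : A →ₐc[k] Quot k A ↥(coinv p) :=
    Bialgebra.Quotient.mkBialgHom (augIdeal k A ↥(coinv p))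
  have hsurj : Function.Surjective projB := Ideal.Quotient.mk_surjective
  let g : Quot k A ↥(coinv p) →ₐ[k] C :=
    Ideal.Quotient.liftₐ (augIdeal k A ↥(coinv p)) (p : A →ₐ[k] C) (fun a ha => by
      have := hle ha
      rw [RingHom.mem_ker] at this
      exact this)
  have hg : g.comp (projB : A →ₐ[k] Quot k A ↥(coinv p)) = (p : A →ₐ[k] C) := by
    ext a
    rfl
  let p' : Quot k A ↥(coinv p) →ₐc[k] C := bialgHomOfSurjective projB hsurj p g hg
  have hp' : (p' : Quot k A ↥(coinv p) →ₐ[k] C).comp (proj k A ↥(coinv p)) = (p : A →ₐ[k] C) := by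
    ext a
    rfl
  have hn' : IsNormalHom p' := isNormalHom_of_quot p p' projB hsurj hp' hn
  have hBr : ∀ a : A, a ∈ coinv p ↔ a ∈ (algebraMap ↥(coinv p) A).range := by
    intro a
    constructor
    · intro ha
      exact ⟨⟨a, ha⟩, rfl⟩
    · rintro ⟨b, rfl⟩
      exact b.2
  have h0 : coinv p' = ⊥ := coinv_quot_eq_bot f hf p hBr p' hp'
  have hinj := injective_of_coinv_eq_bot hn' h0
  intro a ha
  rw [RingHom.mem_ker] at ha
  apply hle'
  have h1 : p' (projB a) = 0 := ha
  have h2 : projB a = 0 := hinj (h1.trans (map_zero _).symm)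
  exact Ideal.Quotient.eq_zero_iff_mem.mp h2

end Groth.Agent.H9.NQ
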