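import Mathlib
import Groth.Prelude.Def_SGA3
import Groth.Agent.Lib.Helper9.NormalInv
import Groth.Agent.Lib.Helper9.NQ.Main
import Groth.Agent.Lib.Helper9.NQ.Inverse

/-!
# Bridge to the `SGA3` prelude definitions (helper9)
-/

namespace Groth.Agent.H9.NQ

open TensorProduct Groth.Agent.H9.FF Groth.Agent.H9.FF.Conv

set_option linter.unusedSectionVars false
set_option linter.style.haveILetI false

universe u

section Conv3

variable {k : Type u} [CommRing k] {A : Type u} [CommRing A] [HopfAlgebra k A]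
  {R : Type u} [CommRing R] [Algebra k R]

lemma conv3_eq_cmul (f g h : A →ₐ[k] R) : Dyn.conv3 k A f g h = cmul (cmul f g) h :=
  Groth.Agent.H9.NormalInv.conv3_eq f g h

end Conv3

variable {k : Type u} [Field k] {A : Type u} [CommRing A] [HopfAlgebra k A]
  (I : Ideal A) [I.IsHopfIdeal k]

/-- the quotient map of a Hopf ideal -/
noncomputable abbrev quotHom : A →ₐc[k] A ⧸ I := Bialgebra.Quotient.mkBialgHom I

lemma quotHom_surjective : Function.Surjective (quotHom (k := k) I) := Ideal.Quotient.mk_surjective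

lemma ker_quotHom : RingHom.ker ((quotHom (k := k) I : A →ₐc[k] A ⧸ I) : A →+* A ⧸ I) = I := by
  ext a
  rw [RingHom.mem_ker]
  exact Ideal.Quotient.eq_zero_iff_mem

variable {I}

/-- the prelude's normality gives `IsNormalHom` of the quotient map -/
theorem isNormalHom_quotHom (hI : SGA3.IsNormalHopfIdeal k A I) :
    IsNormalHom (quotHom (k := k) I) := by
  intro a ha
  have haI : a ∈ I := Ideal.Quotient.eq_zero_iff_mem.mp ha
  have h1 := hI ((A ⧸ I) ⊗[k] A)
    (cinv (Algebra.TensorProduct.includeRight : A →ₐ[k] (A ⧸ I) ⊗[k] A))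
    ((Algebra.TensorProduct.includeLeft : (A ⧸ I) →ₐ[k] (A ⧸ I) ⊗[k] A).comp
      (quotHom (k := k) I : A →ₐ[k] A ⧸ I))
    (by
      intro b hb
      show (Algebra.TensorProduct.includeLeft : (A ⧸ I) →ₐ[k] (A ⧸ I) ⊗[k] A)
        (Ideal.Quotient.mk I b) = 0
      rw [Ideal.Quotient.eq_zero_iff_mem.mpr hb, map_zero]) a haI
  rw [conv3_eq_cmul] at h1
  have h2 : (cinv (Algebra.TensorProduct.includeRight : A →ₐ[k] (A ⧸ I) ⊗[k] A)).comp
      (HopfAlgebra.antipodeAlgHom k A) =
      (Algebra.TensorProduct.includeRight : A →ₐ[k] (A ⧸ I) ⊗[k] A) := cinv_cinv _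
  rw [h2] at h1
  exact h1

/-- conversely -/
theorem isNormalHopfIdeal_of_isNormalHom (hn : IsNormalHom (quotHom (k := k) I)) :
    SGA3.IsNormalHopfIdeal k A I := by
  intro R _ _ g h hh a ha
  rw [conv3_eq_cmul]
  let hbar : A ⧸ I →ₐ[k] R := Ideal.Quotient.liftₐ I h hh
  have hh' : h = hbar.comp (quotHom (k := k) I : A →ₐ[k] A ⧸ I) := by
    ext b
    rfl
  obtain ⟨n', hn'⟩ := normal_factor' (quotHom_surjective I) hn g hbar
  have h1 : cmul (cmul g h) (g.comp (HopfAlgebra.antipodeAlgHom k A)) =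
      n'.comp (quotHom (k := k) I : A →ₐ[k] A ⧸ I) := by
    rw [hh']
    exact hn'
  rw [h1, AlgHom.comp_apply]
  have : (quotHom (k := k) I : A →ₐ[k] A ⧸ I) a = 0 := Ideal.Quotient.eq_zero_iff_mem.mpr ha
  rw [this, map_zero]

/-- **S3018 in library form** -/
theorem exists_hopfSub_of_normal (hI : SGA3.IsNormalHopfIdeal k A I) :
    ∃ B : Subalgebra k A, SGA3.IsHopfSubalgebra k A B ∧ Module.FaithfullyFlat B A ∧
      I = SGA3.augIdealSpan k A B := by
  have hp := quotHom_surjective (k := k) I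
  have hn := isNormalHom_quotHom hI
  have hB := isHopfSub_coinv hp hn
  refine ⟨coinv (quotHom (k := k) I), ⟨hB.1, hB.2⟩, faithfullyFlat_of_isHopfSub _ hB, ?_⟩
  have h1 := ker_eq_span_coinv hp hn
  rw [ker_quotHom] at h1
  exact h1

variable (I) in
/-- invariants of the quotient by a Hopf ideal `I`, described through `A ⊗ I` -/
theorem mem_coinv_quotHom_iff (x : A) :
    x ∈ coinv (quotHom (k := k) I) ↔
      CoalgebraStruct.comul (R := k) (A := A) x - x ⊗ₜ[k] (1 : A) ∈
        LinearMap.range (LinearMap.lTensor A (I.restrictScalars k).subtype) := by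
  have hex : Function.Exact (I.restrictScalars k).subtype (Ideal.Quotient.mkₐ k I).toLinearMap := by
    intro a
    constructor
    · intro ha
      exact ⟨⟨a, Ideal.Quotient.eq_zero_iff_mem.mp ha⟩, rfl⟩
    · rintro ⟨b, rfl⟩
      exact Ideal.Quotient.eq_zero_iff_mem.mpr b.2
  have hsurj : Function.Surjective (Ideal.Quotient.mkₐ k I).toLinearMap :=
    Ideal.Quotient.mk_surjective
  have hex' := lTensor_exact A hex hsurj
  have h2 : CoalgebraStruct.comul (R := k) (A := A) x - x ⊗ₜ[k] (1 : A) ∈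
      LinearMap.range (LinearMap.lTensor A (I.restrictScalars k).subtype) ↔
      (LinearMap.lTensor A (Ideal.Quotient.mkₐ k I).toLinearMap)
        (CoalgebraStruct.comul (R := k) (A := A) x - x ⊗ₜ[k] (1 : A)) = 0 := (hex' _).symm
  rw [h2, map_sub, sub_eq_zero, LinearMap.lTensor_tmul]
  show rho (quotHom (k := k) I) x = Algebra.TensorProduct.includeLeft x ↔ _
  rw [rho_apply]
  have h1 : (Ideal.Quotient.mkₐ k I).toLinearMap (1 : A) = 1 := map_one (Ideal.Quotient.mkₐ k I)
  rw [h1]
  rfl

/-- **S4105 in library form** -/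
theorem eq_augIdealSpan_iff (B : Subalgebra k A) (hB : SGA3.IsHopfSubalgebra k A B)
    (hI : SGA3.IsNormalHopfIdeal k A I) :
    I = SGA3.augIdealSpan k A B ↔
      (B : Set A) = {x : A | CoalgebraStruct.comul (R := k) (A := A) x - x ⊗ₜ[k] (1 : A) ∈
        LinearMap.range (LinearMap.lTensor A (I.restrictScalars k).subtype)} := by
  have hB' : IsHopfSub k A B := ⟨hB.1, hB.2⟩
  have hp := quotHom_surjective (k := k) I
  have hn := isNormalHom_quotHom hI
  constructor
  · intro h
    have h1 : coinv (quotHom (k := k) I) = B :=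
      coinv_eq_of_ker_eq B hB' (quotHom (k := k) I) (by rw [ker_quotHom]; exact h)
    ext x
    rw [Set.mem_ofPred_eq, ← mem_coinv_quotHom_iff, h1]
    rfl
  · intro h
    have h1 : coinv (quotHom (k := k) I) = B := by
      apply SetLike.ext'
      rw [h]
      ext x
      exact mem_coinv_quotHom_iff I x
    have h2 := ker_eq_span_coinv hp hn
    rw [ker_quotHom, h1] at h2
    exact h2

end Groth.Agent.H9.NQ
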