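import Mathlib
import Groth.Prelude.Def_SGA3
import Groth.Prelude.Def_ComodSub
import Groth.Agent.Lib.Helper9.NQ.SGA3
import Groth.Agent.Lib.Helper9.Comod
import Groth.Agent.Lib.Helper9.ComodCoeff

/-!
# A normal algebraic subgroup is the kernel of a finite-dimensional representation (helper9)
-/

namespace Groth.Agent.H9.NQ

open TensorProduct Groth.Agent.H9.FF Groth.Agent.H9.FF.Conv Groth.Agent.H9.Comod

set_option linter.unusedSectionVars false
set_option linter.style.haveILetI false

universe u

variable {k : Type u} [Field k] {A : Type u} [CommRing A] [HopfAlgebra k A]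

/-- **S7969 in library form** -/
theorem exists_rep_with_kernel [Algebra.FiniteType k A] (I : Ideal A) [I.IsHopfIdeal k]
    (hI : SGA3.IsNormalHopfIdeal k A I) :
    ∃ (V : Type u) (_ : AddCommGroup V) (_ : Module k V) (_ : HopfRep.Comod k A V),
      Module.Finite k V ∧ ∀ J : Ideal A, I ≤ J ↔ ∀ v : V,
        LinearMap.lTensor V (Ideal.Quotient.mkₐ k J).toLinearMap
          (HopfRep.Comod.coact (k := k) (A := A) v) = v ⊗ₜ[k] (1 : A ⧸ J) := by
  classical
  have hp := quotHom_surjective (k := k) I
  have hn := isNormalHom_quotHom hI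
  have hB := isHopfSub_coinv hp hn
  have hker := ker_eq_span_coinv hp hn
  rw [ker_quotHom] at hker
  haveI : IsNoetherianRing A := Algebra.FiniteType.isNoetherianRing k A
  have hfg : I.FG := (isNoetherianRing_iff_ideal_fg A).mp inferInstance I
  rw [hker] at hfg
  obtain ⟨s, hsT, hs⟩ := (Submodule.fg_span_iff_fg_span_finset_subset _).mp hfg
  have hIs : I = Ideal.span (s : Set A) := hker.trans hs
  let U : Submodule k A := gen A (Submodule.span k (s : Set A))
  have hU : HopfRep.IsSubcomod (k := k) (A := A) U := isSubcomod_gen _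
  have hUfg : U.FG := fg_gen _ (Submodule.fg_span s.finite_toSet)
  have hsU : ∀ x ∈ s, x ∈ U := fun x hx => le_gen _ (Submodule.subset_span hx)
  have hBsub : HopfRep.IsSubcomod (k := k) (A := A)
      (Subalgebra.toSubmodule (coinv (quotHom (k := k) I))) := by
    have h1 : IsSubcoalg k (Subalgebra.toSubmodule (coinv (quotHom (k := k) I))) := by
      intro b hb
      exact hB.1 b hb
    exact h1.isSubcomod
  have hUB : U ≤ Subalgebra.toSubmodule (coinv (quotHom (k := k) I)) := by
    apply gen_le hBsub
    rw [Submodule.span_le]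
    intro x hx
    exact (hsT hx).1
  let cU : HopfRep.Comod k A U := ComodSub.Comod.restr (HopfRep.Comod.regular k A) U hU
  have hcoe : ∀ x : U, U.subtype.rTensor A (cU.coact x) = CoalgebraStruct.comul (R := k) (x : A) :=
    fun x => ComodSub.restr_coact_coe (HopfRep.Comod.regular k A) U hU x
  refine ⟨U, inferInstance, inferInstance, cU, Module.Finite.iff_fg.mpr hUfg, ?_⟩
  intro J
  -- transport along the inclusion `U ⊗ A/J → A ⊗ A/J`
  have htr : ∀ v : U, U.subtype.rTensor (A ⧸ J)
      (LinearMap.lTensor U (Ideal.Quotient.mkₐ k J).toLinearMap (cU.coact v)) =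
      LinearMap.lTensor A (Ideal.Quotient.mkₐ k J).toLinearMap
        (CoalgebraStruct.comul (R := k) (v : A)) := by
    intro v
    rw [← hcoe]
    generalize cU.coact v = y
    induction y using TensorProduct.induction_on with
    | zero => simp
    | tmul u a => simp
    | add y z hy hz => simp only [map_add, hy, hz]
  have hinj : Function.Injective (U.subtype.rTensor (A ⧸ J)) :=
    Module.Flat.rTensor_preserves_injective_linearMap _ U.injective_subtype
  constructor
  · intro hIJ v
    apply hinj
    rw [htr, LinearMap.rTensor_tmul, Submodule.subtype_apply]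
    have hv : (v : A) ∈ coinv (quotHom (k := k) I) := hUB v.2
    have h1 : rho (quotHom (k := k) I) (v : A) = (v : A) ⊗ₜ[k] (1 : A ⧸ I) := hv
    rw [rho_apply] at h1
    have h2 : (Ideal.Quotient.mkₐ k J).toLinearMap =
        (Ideal.Quotient.factorₐ k hIJ).toLinearMap ∘ₗ (Ideal.Quotient.mkₐ k I).toLinearMap := by
      ext a
      rfl
    rw [h2, LinearMap.lTensor_comp, LinearMap.comp_apply]
    have h3 : LinearMap.lTensor A (Ideal.Quotient.mkₐ k I).toLinearMap
        (CoalgebraStruct.comul (R := k) (v : A)) = (v : A) ⊗ₜ[k] (1 : A ⧸ I) := h1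
    rw [h3, LinearMap.lTensor_tmul]
    congr 1
  · intro h
    rw [hIs, Ideal.span_le]
    intro x hx
    have h1 := h ⟨x, hsU x hx⟩
    have h2 := congrArg (U.subtype.rTensor (A ⧸ J)) h1
    rw [htr, LinearMap.rTensor_tmul, Submodule.subtype_apply] at h2
    have h3 := congrArg (sliceL (Coalgebra.counit (R := k) (A := A))) h2
    rw [sliceL_lTensor, sliceL_counit_comul, sliceL_tmul] at h3
    have hx0 : Coalgebra.counit (R := k) (A := A) x = 0 := (hsT hx).2
    rw [hx0, zero_smul] at h3
    exact Ideal.Quotient.eq_zero_iff_mem.mp h3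

end Groth.Agent.H9.NQ
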