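import Mathlib
import Groth.Prelude.Def_HopfRep
import Groth.Agent.Lib.Helper9.NQ.SGA3
import Groth.Agent.Lib.Helper9.NQ.Kernel
import Groth.Agent.Lib.Helper9.TrigFil.Basic
import Groth.Agent.Lib.Helper9.UnipFil.Basic
import Groth.Agent.Lib.Helper9.ComodDiag
import Groth.Agent.Lib.Helper9.NormalInv

/-!
# Trigonalizable groups: extension of a diagonalizable group by a unipotent normal subgroup (helper9)
-/

namespace Groth.Agent.H9.NQ

open TensorProduct Groth.Agent.H9.FF Groth.Agent.H9.FF.Conv Groth.Agent.H9.Comod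

set_option linter.unusedSectionVars false
set_option linter.style.haveILetI false

universe u v

section GroupLikeSub

variable (k : Type u) [Field k] (A : Type v) [CommRing A] [HopfAlgebra k A]

/-- the subalgebra spanned by the group-like elements -/
noncomputable def glSub : Subalgebra k A := Algebra.adjoin k {a : A | IsGroupLikeElem k a}

variable {k A}

lemma glSub_toSubmodule :
    Subalgebra.toSubmodule (glSub k A) = Submodule.span k {a : A | IsGroupLikeElem k a} := by
  apply Algebra.adjoin_eq_span_of_subset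
  intro x hx
  apply Submodule.subset_span
  have hcl : Submonoid.closure {a : A | IsGroupLikeElem k a} ≤
      { carrier := {a : A | IsGroupLikeElem k a}
        mul_mem' := fun ha hb => IsGroupLikeElem.mul ha hb
        one_mem' := IsGroupLikeElem.one } := by
    rw [Submonoid.closure_le]
    intro a ha
    exact ha
  exact hcl hx

lemma mem_glSub_iff {a : A} :
    a ∈ glSub k A ↔ a ∈ Submodule.span k {a : A | IsGroupLikeElem k a} := by
  rw [← glSub_toSubmodule]
  rfl

lemma groupLike_mem_glSub {a : A} (ha : IsGroupLikeElem k a) : a ∈ glSub k A :=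
  Algebra.subset_adjoin ha

theorem isHopfSub_glSub : IsHopfSub k A (glSub k A) := by
  constructor
  · intro b hb
    rw [mem_glSub_iff] at hb
    induction hb using Submodule.span_induction with
    | mem x hx =>
      have hx' : IsGroupLikeElem k x := hx
      rw [hx'.comul_eq_tmul_self]
      exact ⟨(⟨x, groupLike_mem_glSub hx'⟩ : glSub k A) ⊗ₜ[k] ⟨x, groupLike_mem_glSub hx'⟩, rfl⟩
    | zero => rw [map_zero]; exact zero_mem _
    | add x y _ _ hx hy => rw [map_add]; exact add_mem hx hy
    | smul c x _ hx => rw [map_smul]; exact Submodule.smul_mem _ c hx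
  · intro b hb
    rw [mem_glSub_iff] at hb
    induction hb using Submodule.span_induction with
    | mem x hx =>
      have hx' : IsGroupLikeElem k x := hx
      exact groupLike_mem_glSub hx'.antipode
    | zero => rw [map_zero]; exact zero_mem _
    | add x y _ _ hx hy => rw [map_add]; exact add_mem hx hy
    | smul c x _ hx => rw [map_smul]; exact Subalgebra.smul_mem _ hx c

/-- group-like elements of `A` are group-like in the sub-Hopf-algebra they span -/
lemma isGroupLikeElem_glSub {a : A} (ha : IsGroupLikeElem k a) :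
    letI := (isHopfSub_glSub (k := k) (A := A)).hopfAlgebra
    IsGroupLikeElem k (⟨a, groupLike_mem_glSub ha⟩ : glSub k A) := by
  letI := (isHopfSub_glSub (k := k) (A := A)).hopfAlgebra
  constructor
  · exact ha.counit_eq_one
  · apply IsHopfSub.map_val_injective (B := glSub k A)
    have := IsHopfSub.map_comulSub (isHopfSub_glSub (k := k) (A := A))
      (⟨a, groupLike_mem_glSub ha⟩ : glSub k A)
    show TensorProduct.map (glSub k A).val.toLinearMap (glSub k A).val.toLinearMap
      (IsHopfSub.comulSub (isHopfSub_glSub (k := k) (A := A))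
        (⟨a, groupLike_mem_glSub ha⟩ : glSub k A)) = _
    rw [this, TensorProduct.map_tmul]
    exact ha.comul_eq_tmul_self

theorem isDiagonalizable_glSub :
    letI := (isHopfSub_glSub (k := k) (A := A)).hopfAlgebra
    HopfRep.IsDiagonalizable k ↥(glSub k A) := by
  letI := (isHopfSub_glSub (k := k) (A := A)).hopfAlgebra
  unfold HopfRep.IsDiagonalizable
  rw [eq_top_iff]
  rintro ⟨b, hb⟩ -
  have hb' := mem_glSub_iff.mp hb
  induction hb' using Submodule.span_induction with
  | mem x hx =>
    exact Submodule.subset_span (isGroupLikeElem_glSub hx)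
  | zero => exact zero_mem _
  | add x y hx hy ihx ihy =>
    have h1 := ihx (mem_glSub_iff.mpr hx)
    have h2 := ihy (mem_glSub_iff.mpr hy)
    exact add_mem h1 h2
  | smul c x hx ihx =>
    have h1 := ihx (mem_glSub_iff.mpr hx)
    exact Submodule.smul_mem _ c h1

end GroupLikeSub

section UnipQuot

open WithConv Groth.Agent.H9.UnipFil Groth.Agent.H9.TrigFil

variable {k : Type u} [Field k] {A : Type v} [CommRing A] [HopfAlgebra k A]

/-- pulling a product of functionals back along a coalgebra map -/
lemma prod_comp_coalgHom {C : Type*} [AddCommGroup C] [Module k C] [Coalgebra k C]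
    {D : Type*} [AddCommGroup D] [Module k D] [Coalgebra k D] (π : C →ₗc[k] D)
    (l : List (WithConv (D →ₗ[k] k))) :
    (l.map (fun θ => toConv (θ.ofConv ∘ₗ π.toLinearMap))).prod.ofConv =
      l.prod.ofConv ∘ₗ π.toLinearMap := by
  induction l with
  | nil =>
    simp only [List.map_nil, List.prod_nil]
    ext c
    simp
  | cons θ l ih =>
    simp only [List.map_cons, List.prod_cons]
    rw [LinearMap.convMul_comp_coalgHom_distrib, ← ih]

/-- the quotient of a trigonalizable group by a normal subgroup contained in the kernels of all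
characters is unipotent -/
theorem isUnipotent_quot_of_trig (hT : HopfRep.IsTrigonalizable k A) (J : Ideal A)
    [J.IsHopfIdeal k] (hJ : ∀ χ : A, IsGroupLikeElem k χ → χ - 1 ∈ J) :
    HopfRep.IsUnipotent k (A ⧸ J) := by
  apply isUnipotent_of_kills
  intro abar
  obtain ⟨a, rfl⟩ := Ideal.Quotient.mk_surjective abar
  obtain ⟨n, hn⟩ := exists_killsG hT a
  refine ⟨n, fun m hm l hlen hl => ?_⟩
  let π : A →ₗc[k] A ⧸ J := (Bialgebra.Quotient.mkBialgHom J : A →ₐc[k] A ⧸ J).toCoalgHom
  have h1 := hn m hm (l.map (fun θ => toConv (θ.ofConv ∘ₗ π.toLinearMap)))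
    (by rw [List.length_map, hlen]) (by
      intro θ' hθ'
      rw [List.mem_map] at hθ'
      obtain ⟨θ, hθ, rfl⟩ := hθ'
      intro χ hχ
      show θ.ofConv (Ideal.Quotient.mk J χ) = 0
      have h2 : Ideal.Quotient.mk J χ = 1 := by
        have := Ideal.Quotient.eq_zero_iff_mem.mpr (hJ χ hχ)
        rw [map_sub, map_one, sub_eq_zero] at this
        exact this
      rw [h2]
      exact hl θ hθ)
  rw [prod_comp_coalgHom] at h1
  exact h1

end UnipQuot

section KernelNormal

variable {k : Type*} [CommRing k] {A : Type*} [CommRing A] [HopfAlgebra k A]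
  {B : Type*} [CommRing B] [HopfAlgebra k B] {C : Type*} [CommRing C] [HopfAlgebra k C]

/-- the kernel of a homomorphism `G → Spec B` is a normal subgroup -/
theorem isNormalHom_of_ker_eq_map (f : B →ₐc[k] A) (p : A →ₐc[k] C)
    (hker : RingHom.ker (p : A →+* C) =
      Ideal.map (f : B →+* A) (RingHom.ker (Bialgebra.counitAlgHom k B))) : IsNormalHom p := by
  have hpf : (p : A →ₐ[k] C).comp (f : B →ₐ[k] A) = cone := by
    ext b
    rw [cone_apply]
    have h1 : (f : B →+* A) (b - algebraMap k B (Coalgebra.counit (R := k) b)) ∈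
        RingHom.ker (p : A →+* C) := by
      rw [hker]
      apply Ideal.mem_map_of_mem
      rw [RingHom.mem_ker, map_sub]
      simp
    rw [RingHom.mem_ker, map_sub, map_sub, sub_eq_zero] at h1
    have h2 : (p : A →+* C) ((f : B →+* A) (algebraMap k B (Coalgebra.counit (R := k) b))) =
        algebraMap k C (Coalgebra.counit (R := k) b) := by
      have e1 : (f : B →+* A) (algebraMap k B (Coalgebra.counit (R := k) b)) =
          algebraMap k A (Coalgebra.counit (R := k) b) := AlgHom.commutes (f : B →ₐ[k] A) _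
      rw [e1]
      exact AlgHom.commutes (p : A →ₐ[k] C) _
    rw [h2] at h1
    exact h1
  have h2 : (conj' p).comp (f : B →ₐ[k] A) = cone := by
    rw [conj', cmul_comp_bialgHom, cmul_comp_bialgHom, cinv_comp_bialgHom, AlgHom.comp_assoc, hpf,
      comp_cone, cmul_cone, cinv_cmul]
  have hle : RingHom.ker (p : A →+* C) ≤ RingHom.ker (conj' p) := by
    rw [hker, Ideal.map_le_iff_le_comap]
    intro b hb
    rw [Ideal.mem_comap, RingHom.mem_ker]
    have h3 := congrArg (fun F : B →ₐ[k] C ⊗[k] A => F b) h2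
    simp only [AlgHom.comp_apply] at h3
    have hb' : Coalgebra.counit (R := k) b = 0 := hb
    rw [cone_apply, hb', map_zero] at h3
    exact h3
  intro a ha
  have := hle ((RingHom.mem_ker).mpr ha)
  exact (RingHom.mem_ker).mp this

end KernelNormal

section Pull

variable {k : Type u} [Field k] {C : Type*} [AddCommGroup C] [Module k C] [Coalgebra k C]
  {D : Type*} [AddCommGroup D] [Module k D] [Coalgebra k D]
  {V : Type*} [AddCommGroup V] [Module k V]

/-- a comodule over `D` whose coefficients lie in a subcoalgebra `C ↪ D` is a comodule over `C` -/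
@[reducible] noncomputable def pullComod (i : C →ₗc[k] D) (hi : Function.Injective i)
    (cD : HopfRep.Comod k D V)
    (h : ∀ v, cD.coact v ∈ LinearMap.range ((i : C →ₗ[k] D).lTensor V)) : HopfRep.Comod k C V :=
  have hr := Classical.choose_spec (exists_retraction (i : C →ₗ[k] D) hi)
  have hρ : (i : C →ₗ[k] D).lTensor V ∘ₗ
      ((Classical.choose (exists_retraction (i : C →ₗ[k] D) hi)).lTensor V ∘ₗ cD.coact) =
      cD.coact := by
    apply LinearMap.ext
    intro v
    obtain ⟨y, hy⟩ := h v
    simp only [LinearMap.comp_apply]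
    rw [← hy, ← LinearMap.comp_apply, ← LinearMap.comp_apply, ← LinearMap.lTensor_comp,
      ← LinearMap.lTensor_comp, LinearMap.comp_assoc, hr, LinearMap.comp_id]
  { coact := (Classical.choose (exists_retraction (i : C →ₗ[k] D) hi)).lTensor V ∘ₗ cD.coact
    coassoc := coassoc_of_retraction (cD := cD) i _ hr _ hρ
    counit_comp := counit_of_coalgHom (cD := cD) i _ hρ }

lemma lTensor_pullComod_coact (i : C →ₗc[k] D) (hi : Function.Injective i)
    (cD : HopfRep.Comod k D V)
    (h : ∀ v, cD.coact v ∈ LinearMap.range ((i : C →ₗ[k] D).lTensor V)) (v : V) :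
    (i : C →ₗ[k] D).lTensor V ((pullComod i hi cD h).coact v) = cD.coact v := by
  have hr := Classical.choose_spec (exists_retraction (i : C →ₗ[k] D) hi)
  obtain ⟨y, hy⟩ := h v
  show (i : C →ₗ[k] D).lTensor V
    ((Classical.choose (exists_retraction (i : C →ₗ[k] D) hi)).lTensor V (cD.coact v)) = _
  rw [← hy, ← LinearMap.comp_apply, ← LinearMap.comp_apply, ← LinearMap.lTensor_comp,
    ← LinearMap.lTensor_comp, LinearMap.comp_assoc, hr, LinearMap.comp_id]

end Pull

section Converse

variable {k : Type u} [Field k] {A : Type u} [CommRing A] [HopfAlgebra k A]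

/-- an extension of a diagonalizable group by a unipotent group is trigonalizable -/
theorem isTrigonalizable_of_ext (B : Type u) [CommRing B] [HopfAlgebra k B] (ψ : B →ₐc[k] A)
    (J : Ideal A) [J.IsHopfIdeal k] (hψ : Function.Injective ψ)
    (hB : HopfRep.IsDiagonalizable k B)
    (hJ : J = Ideal.map (ψ : B →+* A) (RingHom.ker (Bialgebra.counitAlgHom k B)))
    (hU : HopfRep.IsUnipotent k (A ⧸ J)) : HopfRep.IsTrigonalizable k A := by
  intro V _ _ c hfin hsimple
  have hker : RingHom.ker ((quotHom (k := k) J : A →ₐc[k] A ⧸ J) : A →+* A ⧸ J) =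
      Ideal.map (ψ : B →+* A) (RingHom.ker (Bialgebra.counitAlgHom k B)) := by
    rw [ker_quotHom]
    exact hJ
  have hn : IsNormalHom (quotHom (k := k) J) := isNormalHom_of_ker_eq_map ψ _ hker
  have hnJ : SGA3.IsNormalHopfIdeal k A J := isNormalHopfIdeal_of_isNormalHom hn
  let cJ : HopfRep.Comod k (A ⧸ J) V := GLin.comodAlong (quotHom (k := k) J) c
  haveI := hsimple.1
  have hfix : @HopfRep.fixedPts k (A ⧸ J) _ _ _ V _ _ cJ ≠ ⊥ := @hU V _ _ cJ hfin hsimple.1
  let W : Submodule k V := @HopfRep.fixedPts k (A ⧸ J) _ _ _ V _ _ cJ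
  have hW : ∀ v : V, v ∈ W ↔ LinearMap.lTensor V (Ideal.Quotient.mkₐ k J).toLinearMap
      (HopfRep.Comod.coact (k := k) (A := A) v) = v ⊗ₜ[k] (1 : A ⧸ J) := fun v => Iff.rfl
  have hWsub : HopfRep.IsSubcomod (k := k) (A := A) W :=
    Groth.Agent.H9.NormalInv.isSubcomod_fixed J hnJ W hW
  have hWtop : W = ⊤ := (hsimple.2 W hWsub).resolve_left hfix
  -- the invariants of the kernel are the image of `ψ`
  have hcoinv : coinv (quotHom (k := k) J) = (ψ : B →ₐ[k] A).range := by
    apply coinv_eq_of_ker_eq _ (isHopfSub_range ψ)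
    rw [ker_quotHom, hJ, Ideal.map]
    congr 1
    ext a
    constructor
    · rintro ⟨b, hb, rfl⟩
      refine ⟨⟨b, rfl⟩, ?_⟩
      have hb' : Coalgebra.counit (R := k) b = 0 := hb
      show Coalgebra.counit (R := k) (ψ b) = 0
      rw [CoalgHomClass.counit_comp_apply, hb']
    · rintro ⟨⟨b, rfl⟩, h0⟩
      refine ⟨b, ?_, rfl⟩
      have h0' : Coalgebra.counit (R := k) (ψ b) = 0 := h0
      rw [CoalgHomClass.counit_comp_apply] at h0'
      exact h0'
  -- the coefficients of `V` lie in the image of `ψ`
  have hcoef : ∀ v : V, c.coact v ∈ LinearMap.range ((ψ : B →ₗ[k] A).lTensor V) := by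
    intro v
    have hv : v ∈ W := by rw [hWtop]; trivial
    have hv' := (hW v).mp hv
    let D : Submodule k A := Subalgebra.toSubmodule (ψ : B →ₐ[k] A).range
    have h1 : c.coact v ∈ LinearMap.range (D.subtype.lTensor V) := by
      rw [mem_range_lTensor_subtype_iff_sliceL]
      intro φ
      have hq : ((quotHom (k := k) J : A →ₐc[k] A ⧸ J) : A →ₐ[k] A ⧸ J) =
          Ideal.Quotient.mkₐ k J := rfl
      have hv'' : ((quotHom (k := k) J : A →ₐc[k] A ⧸ J) : A →ₐ[k] A ⧸ J).toLinearMap.lTensor V
          (HopfRep.Comod.coact (k := k) (A := A) v) = v ⊗ₜ[k] (1 : A ⧸ J) := by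
        rw [hq]
        exact hv'
      have h2 : RChar (quotHom (k := k) J) 1 (mcoef A φ v) :=
        rchar_mcoef (p := quotHom (k := k) J) hv'' φ
      have h3 : mcoef A φ v ∈ coinv (quotHom (k := k) J) := h2
      rw [hcoinv] at h3
      exact h3
    obtain ⟨y, hy⟩ := h1
    let e : B →ₗ[k] D := (ψ : B →ₐ[k] A).rangeRestrict.toLinearMap
    have he : Function.Surjective e := (ψ : B →ₐ[k] A).rangeRestrict_surjective
    obtain ⟨z, hz⟩ := LinearMap.lTensor_surjective V he y
    refine ⟨z, ?_⟩
    rw [← hy, ← hz, ← LinearMap.comp_apply, ← LinearMap.lTensor_comp]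
    rfl
  have hψ' : Function.Injective (ψ.toCoalgHom : B →ₗc[k] A) := hψ
  let cB : HopfRep.Comod k B V := pullComod ψ.toCoalgHom hψ' c hcoef
  have hcB : ∀ v : V, (ψ : B →ₗ[k] A).lTensor V (cB.coact v) = c.coact v :=
    fun v => lTensor_pullComod_coact ψ.toCoalgHom hψ' c hcoef v
  -- a nonzero eigenvector
  obtain ⟨v₀, hv₀⟩ := exists_ne (0 : V)
  have hspan := @mem_span_eigen_of_span_groupLike k _ B _ _ _ V _ _ cB hB v₀
  have hex : ∃ w : V, w ≠ 0 ∧ ∃ g : B, IsGroupLikeElem k g ∧ cB.coact w = w ⊗ₜ[k] g := by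
    by_contra hcon
    push Not at hcon
    have hzero : Submodule.span k {v : V | ∃ a : B, IsGroupLikeElem k a ∧
        cB.coact v = v ⊗ₜ[k] a} ≤ ⊥ := by
      rw [Submodule.span_le]
      rintro w ⟨g, hg, hw⟩
      by_contra hw0
      exact hcon w hw0 g hg hw
    exact hv₀ ((Submodule.mem_bot k).mp (hzero hspan))
  obtain ⟨w, hw0, g, hg, hw⟩ := hex
  have hwA : c.coact w = w ⊗ₜ[k] ψ g := by
    rw [← hcB, hw, LinearMap.lTensor_tmul]
    rfl
  let L : Submodule k V := Submodule.span k {w}
  have hL : HopfRep.IsSubcomod (k := k) (A := A) L := by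
    intro x hx
    obtain ⟨a, rfl⟩ := Submodule.mem_span_singleton.mp hx
    refine ⟨(⟨a • w, hx⟩ : L) ⊗ₜ[k] ψ g, ?_⟩
    rw [LinearMap.rTensor_tmul, Submodule.subtype_apply]
    show (a • w) ⊗ₜ[k] ψ g = c.coact (a • w)
    rw [map_smul, hwA, TensorProduct.smul_tmul']
  have hLtop : L = ⊤ := by
    refine (hsimple.2 L hL).resolve_left ?_
    intro h0
    have : w ∈ L := Submodule.mem_span_singleton_self w
    rw [h0, Submodule.mem_bot] at this
    exact hw0 this
  have h1 : Module.finrank k L = 1 := finrank_span_singleton hw0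
  rw [hLtop, finrank_top] at h1
  exact h1

/-- **S7967 in library form** (no finiteness needed) -/
theorem isTrigonalizable_iff_ext :
    HopfRep.IsTrigonalizable k A ↔
      ∃ (B : Type u) (_ : CommRing B) (_ : HopfAlgebra k B) (ψ : B →ₐc[k] A) (J : Ideal A)
        (_ : J.IsHopfIdeal k),
        Function.Injective ψ ∧ HopfRep.IsDiagonalizable k B ∧
          J = Ideal.map (ψ : B →+* A) (RingHom.ker (Bialgebra.counitAlgHom k B)) ∧
          HopfRep.IsUnipotent k (A ⧸ J) := by
  constructor
  · intro hT
    have hB := isHopfSub_glSub (k := k) (A := A)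
    letI : HopfAlgebra k ↥(glSub k A) := hB.hopfAlgebra
    let ψ : ↥(glSub k A) →ₐc[k] A := hB.incl
    have hf : ∀ b, algebraMap ↥(glSub k A) A b = ψ b := fun _ => rfl
    haveI hI : (augIdeal k A ↥(glSub k A)).IsHopfIdeal k := isHopfIdeal_augIdeal ψ hf
    refine ⟨↥(glSub k A), inferInstance, inferInstance, ψ, augIdeal k A ↥(glSub k A), hI,
      Subtype.val_injective, isDiagonalizable_glSub, rfl, ?_⟩
    apply isUnipotent_quot_of_trig hT
    intro χ hχ
    have hmem : χ - 1 ∈ glSub k A := (glSub k A).sub_mem (groupLike_mem_glSub hχ) (glSub k A).one_mem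
    have : χ - 1 = algebraMap ↥(glSub k A) A ⟨χ - 1, hmem⟩ := rfl
    rw [this]
    apply Ideal.mem_map_of_mem
    rw [RingHom.mem_ker]
    show Coalgebra.counit (R := k) (χ - 1) = 0
    rw [map_sub, hχ.counit_eq_one, Bialgebra.counit_one, sub_self]
  · rintro ⟨B, _, _, ψ, J, _, hψ, hB, hJ, hU⟩
    exact isTrigonalizable_of_ext B ψ J hψ hB hJ hU

end Converse

end Groth.Agent.H9.NQ
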